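import Mathlib
import Cfsg.Agent.Lib.AutPSL.Main

/-!
Generation of `SL_n` from root elements.
-/

set_option autoImplicit false

namespace CfsgLib.SLGen

open Matrix CfsgLib.AutPSL

variable {n : ℕ} {F : Type*} [Field F] {H : Subgroup (Matrix.SpecialLinearGroup (Fin n) F)}

/-- `M` is the matrix of an element of `H`. -/
def Mem (H : Subgroup (Matrix.SpecialLinearGroup (Fin n) F)) (M : Matrix (Fin n) (Fin n) F) : Prop :=
  ∃ h ∈ H, h.1 = M

theorem Mem.mul {A B : Matrix (Fin n) (Fin n) F} (hA : Mem H A) (hB : Mem H B) : Mem H (A * B) := by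
  obtain ⟨a, ha, rfl⟩ := hA
  obtain ⟨b, hb, rfl⟩ := hB
  exact ⟨a * b, H.mul_mem ha hb, rfl⟩

theorem Mem.inv {A B : Matrix (Fin n) (Fin n) F} (hA : Mem H A) (h : A * B = 1) : Mem H B := by
  obtain ⟨a, ha, rfl⟩ := hA
  refine ⟨a⁻¹, H.inv_mem ha, ?_⟩
  calc (a⁻¹).1 = (a⁻¹).1 * (a.1 * B) := by rw [h, mul_one]
    _ = B := by rw [← mul_assoc, ← Matrix.SpecialLinearGroup.coe_mul, inv_mul_cancel,
      Matrix.SpecialLinearGroup.coe_one, one_mul]

/-- The transvection `1 + v fᵀ` lies in `H`. -/
def Root (H : Subgroup (Matrix.SpecialLinearGroup (Fin n) F)) (v f : Fin n → F) : Prop :=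
  f ⬝ᵥ v = 0 ∧ Mem H (rk1 v f)

theorem rk1_mul_neg {v f : Fin n → F} (h : f ⬝ᵥ v = 0) : rk1 v f * rk1 v (-f) = 1 := by
  rw [rk1_mul, h, zero_smul, add_zero, vecMulVec_neg, add_neg_cancel_right]

theorem Root.neg {v f : Fin n → F} (h : Root H v f) : Root H v (-f) :=
  ⟨by rw [neg_dotProduct, h.1, neg_zero], h.2.inv (rk1_mul_neg h.1)⟩

theorem Root.add {v f g : Fin n → F} (h : Root H v f) (h' : Root H v g) : Root H v (f + g) := by
  refine ⟨by rw [add_dotProduct, h.1, h'.1, add_zero], ?_⟩
  have := h.2.mul h'.2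
  rwa [rk1_mul, h.1, zero_smul, add_zero, add_assoc, ← vecMulVec_add] at this

theorem Root.sub {v f g : Fin n → F} (h : Root H v f) (h' : Root H v g) : Root H v (f - g) := by
  rw [sub_eq_add_neg]; exact h.add h'.neg

theorem Root.zero (v : Fin n → F) : Root H v 0 :=
  ⟨zero_dotProduct _, 1, H.one_mem, by simp [rk1]⟩

theorem Root.sum {ι : Type*} {v : Fin n → F} (s : Finset ι) (f : ι → Fin n → F)
    (h : ∀ i ∈ s, Root H v (f i)) : Root H v (∑ i ∈ s, f i) := by
  classical
  induction s using Finset.induction_on with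
  | empty => simpa using Root.zero v
  | insert i s hi ih =>
    rw [Finset.sum_insert hi]
    exact (h i (Finset.mem_insert_self i s)).add (ih fun k hk => h k (Finset.mem_insert_of_mem hk))

theorem Root.cast {v v' f f' : Fin n → F} (h : Root H v f)
    (he : vecMulVec v f = vecMulVec v' f') (h0 : f' ⬝ᵥ v' = 0) : Root H v' f' :=
  ⟨h0, by rw [rk1, ← he]; exact h.2⟩

/-- Flipping a sign. -/
theorem Root.signed {v f : Fin n → F} {c : F} (hc : c = 1 ∨ c = -1) (h : Root H v (c • f)) :
    Root H v f := by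
  rcases hc with rfl | rfl
  · simpa using h
  · simpa using h.neg

theorem Root.left_cancel {v w f : Fin n → F} (h : Root H (v + w) f) (h' : Root H v f) :
    Root H w f := by
  have hw : f ⬝ᵥ w = 0 := by simpa [dotProduct_add, h'.1] using h.1
  refine ⟨hw, ?_⟩
  have := h'.neg.2.mul h.2
  rwa [rk1_mul, neg_dotProduct, h.1, neg_zero, zero_smul, add_zero, vecMulVec_neg, add_vecMulVec,
    add_assoc, neg_add_cancel_left, ← rk1] at this

theorem Root.right_cancel {v f g : Fin n → F} (h : Root H v (f + g)) (h' : Root H v f) :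
    Root H v g := by
  simpa using h.sub h'

/-- The commutator of two transvections with one vanishing pairing. -/
theorem Root.comm {v f w g : Fin n → F} (h : Root H v f) (h' : Root H w g) (hgv : g ⬝ᵥ v = 0) :
    Root H v ((f ⬝ᵥ w) • g) := by
  refine ⟨by rw [smul_dotProduct, hgv, smul_zero], ?_⟩
  have := ((h.2.mul h'.2).mul h.neg.2).mul h'.neg.2
  have e : rk1 v f * rk1 w g * rk1 v (-f) * rk1 w (-g) = rk1 v ((f ⬝ᵥ w) • g) := by
    rw [mul_assoc, rk1_mul, rk1_mul]
    simp only [vecMulVec_neg, neg_dotProduct, mul_add, add_mul, one_mul, mul_one, mul_neg,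
      neg_mul, neg_smul, vecMulVec_mul_vecMulVec, smul_neg, mul_smul_comm, smul_mul_assoc, h.1,
      h'.1, hgv, vecMulVec_smul, vecMulVec_zero, zero_smul, smul_zero, neg_zero, smul_smul, rk1]
    abel
  rwa [e] at this

/-- Conjugation by an element of `H`. -/
theorem Root.conj {v f : Fin n → F} (h : Root H v f) {A B : Matrix (Fin n) (Fin n) F}
    (hA : Mem H A) (hAB : A * B = 1) : Root H (A *ᵥ v) (f ᵥ* B) := by
  have hBA : B * A = 1 := mul_eq_one_comm.1 hAB
  refine ⟨by rw [← dotProduct_mulVec, mulVec_mulVec, hBA, one_mulVec, h.1], ?_⟩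
  have := (hA.mul h.2).mul (hA.inv hAB)
  rwa [rk1, mul_add, add_mul, mul_one, hAB, mul_vecMulVec, vecMulVec_mul, ← rk1] at this

/-- `x_{ij}(t)` lies in `H`. -/
def XMem (H : Subgroup (Matrix.SpecialLinearGroup (Fin n) F)) (i j : Fin n) (t : F) : Prop :=
  Root H (t • ev i) (ev j)

theorem XMem.of_root {i j : Fin n} {c : F} (h : Root H (ev i) (c • ev j)) (hij : i ≠ j) :
    XMem H i j c :=
  h.cast (by rw [vecMulVec_smul, smul_vecMulVec]) (dot_smul_ev hij c)

theorem XMem.root {i j : Fin n} {c : F} (h : XMem H i j c) (hij : i ≠ j) :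
    Root H (ev i) (c • ev j) :=
  h.cast (by rw [vecMulVec_smul, smul_vecMulVec]) (by rw [smul_dotProduct, ev_dot hij, smul_zero])

theorem XMem.trans {i j k : Fin n} {s t : F} (hij : i ≠ j) (hjk : j ≠ k) (hik : i ≠ k)
    (h : XMem H i j s) (h' : XMem H j k t) : XMem H i k (s * t) := by
  have h1 := (h.root hij).comm h' (ev_dot hik)
  refine XMem.of_root ?_ hik
  rwa [smul_dotProduct, dotProduct_smul, dot_ev_self, smul_eq_mul, smul_eq_mul, mul_one] at h1

/-- `SL_n` is generated by the root elements `x_{ij}(1)` and one `x_{ab}(ω)`, `ω` generating the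
field as a ring. -/
theorem eq_top_of_xmem (hn : 3 ≤ n) (h1 : ∀ i j : Fin n, i ≠ j → XMem H i j 1) {ω : F}
    (hgen : Subring.closure ({ω} : Set F) = ⊤) {a b : Fin n} (hab : a ≠ b)
    (hω : XMem H a b ω) : H = ⊤ := by
  classical
  have third : ∀ i j : Fin n, ∃ k, k ≠ i ∧ k ≠ j := by
    intro i j
    by_contra hc
    push Not at hc
    have : (Finset.univ : Finset (Fin n)) ⊆ {i, j} := fun k _ => by
      rcases eq_or_ne k i with rfl | hk
      · simp
      · simp [hc k hk]
    have h2 := (Finset.card_le_card this).trans Finset.card_le_two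
    simp at h2
    omega
  have colChange : ∀ {i j l : Fin n} {t : F}, i ≠ j → i ≠ l → XMem H i j t → XMem H i l t := by
    intro i j l t hij hil h
    rcases eq_or_ne j l with rfl | hjl
    · exact h
    · simpa using h.trans hij hjl hil (h1 j l hjl)
  have rowChange : ∀ {i j l : Fin n} {t : F}, i ≠ j → l ≠ j → XMem H i j t → XMem H l j t := by
    intro i j l t hij hlj h
    rcases eq_or_ne l i with rfl | hli
    · exact h
    · simpa using (h1 l i hli).trans hli hij hlj h
  have move : ∀ {i j k l : Fin n} {t : F}, i ≠ j → k ≠ l → XMem H i j t → XMem H k l t := by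
    intro i j k l t hij hkl h
    obtain ⟨c, hci, hck⟩ := third i k
    exact colChange hck.symm hkl (rowChange hci.symm hck.symm (colChange hij hci.symm h))
  have hall : ∀ (i j : Fin n) (hij : i ≠ j) (t : F), xr hij t ∈ H := by
    have hclo : ∀ t : F, t ∈ Subring.closure ({ω} : Set F) → ∀ i j : Fin n, i ≠ j → XMem H i j t := by
      intro t ht
      induction ht using Subring.closure_induction with
      | mem x hx => intro i j hij; rw [Set.mem_singleton_iff] at hx; exact hx ▸ move hab hij hω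
      | zero => intro i j hij; exact (Root.zero (ev i)).cast (by simp) (dot_smul_ev hij 0)
      | one => exact h1
      | add x y _ _ hx hy =>
        intro i j hij
        exact XMem.of_root (by rw [add_smul]; exact ((hx i j hij).root hij).add ((hy i j hij).root hij)) hij
      | neg x _ hx =>
        intro i j hij
        exact XMem.of_root (by rw [neg_smul]; exact ((hx i j hij).root hij).neg) hij
      | mul x y _ _ hx hy =>
        intro i j hij
        obtain ⟨c, hci, hcj⟩ := third i j
        exact (hx i c hci.symm).trans hci.symm hcj hij (hy c j hcj)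
    intro i j hij t
    obtain ⟨-, g, hg, hge⟩ := hclo t (by rw [hgen]; exact Subring.mem_top t) i j hij
    rwa [show g = xr hij t from Subtype.ext hge] at hg
  haveI : Nontrivial (Fin n) := ⟨⟨⟨0, by omega⟩, ⟨1, by omega⟩, by simp [Fin.ext_iff]⟩⟩
  refine eq_top_iff.2 fun M _ => ?_
  refine Matrix.SpecialLinearGroup.diagonal_transvection_induction' (· ∈ H) M
    (fun i j hij c hc => ?_) (fun i j hij c => ?_) fun A B => H.mul_mem
  · rw [diag2n_eq hij c hc]
    exact H.mul_mem (H.mul_mem (H.mul_mem (H.mul_mem (H.mul_mem (hall _ _ _ _) (hall _ _ _ _))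
      (hall _ _ _ _)) (hall _ _ _ _)) (hall _ _ _ _)) (hall _ _ _ _)
  · rw [← xr_eq_transvection]; exact hall _ _ _ _

end CfsgLib.SLGen
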