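import Mathlib

/-!
Generation of a finite field, and of its square, as a ring by one element.
-/

set_option autoImplicit false

namespace CfsgLib.SLGen

variable {F : Type*} [Field F] [Fintype F] {p f : ℕ} [Fact p.Prime]

theorem ringHom_eq_pow (hF : Fintype.card F = p ^ f) (σ : F →+* F) :
    ∃ i < f, ∀ x : F, σ x = x ^ p ^ i := by
  haveI : CharP F p := charP_of_card_eq_prime_pow hF
  letI : Algebra (ZMod p) F := ZMod.algebra F p
  have hfin : Module.finrank (ZMod p) F = f := by
    have h := Module.card_eq_pow_finrank (K := ZMod p) (V := F)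
    rw [hF, ZMod.card] at h
    exact (Nat.pow_right_injective (Fact.out (p := p.Prime)).two_le h).symm
  let τ : F ≃ₐ[ZMod p] F := AlgEquiv.ofRingEquiv
    (f := RingEquiv.ofBijective σ (Finite.injective_iff_bijective.1 σ.injective)) fun x =>
      RingHom.congr_fun (Subsingleton.elim (σ.comp (algebraMap (ZMod p) F)) (algebraMap (ZMod p) F)) x
  obtain ⟨i, hi⟩ := (FiniteField.bijective_frobeniusAlgEquivOfAlgebraic_pow (ZMod p) F).2 τ
  refine ⟨i.val, hfin ▸ i.isLt, fun x => ?_⟩
  have h1 : (FiniteField.frobeniusAlgEquivOfAlgebraic (ZMod p) F ^ i.val) x = τ x :=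
    congrArg (fun e : F ≃ₐ[ZMod p] F => e x) hi
  rw [AlgEquiv.coe_pow, FiniteField.coe_frobeniusAlgEquivOfAlgebraic_iterate, ZMod.card] at h1
  exact h1.symm

/-- An element lying in no proper subfield generates. -/
theorem closure_eq_top (hF : Fintype.card F = p ^ f) {r : F} (hr : r ≠ 0)
    (h : ∀ i, 0 < i → i < f → r ^ (p ^ i - 1) ≠ 1) : Subring.closure ({r} : Set F) = ⊤ := by
  classical
  by_contra hne
  set K := Subring.closure ({r} : Set F) with hK
  haveI : Fintype K := Fintype.ofFinite _
  letI : Field K := (Finite.isField_of_domain K).toField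
  haveI : CharP F p := charP_of_card_eq_prime_pow hF
  haveI : CharP K p := (CharP.charP_iff_prime_eq_zero (Fact.out (p := p.Prime))).2
    (Subtype.ext (by push_cast; exact CharP.cast_eq_zero F p))
  obtain ⟨i, -, hi⟩ := FiniteField.card K p
  have hlt : Fintype.card K < Fintype.card F := by
    refine Fintype.card_lt_of_injective_not_surjective Subtype.val Subtype.val_injective fun hs => ?_
    refine hne (eq_top_iff.2 fun x _ => ?_)
    obtain ⟨k, rfl⟩ := hs x
    exact k.2
  rw [hi, hF] at hlt
  have hif : (i : ℕ) < f := (Nat.pow_lt_pow_iff_right (Fact.out (p := p.Prime)).one_lt).1 hlt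
  refine h i i.pos hif ?_
  have h1 : (⟨r, Subring.subset_closure (Set.mem_singleton r)⟩ : K) ^ (Fintype.card K - 1) = 1 :=
    FiniteField.pow_card_sub_one_eq_one _ fun h0 => hr (congrArg Subtype.val h0)
  rw [hi] at h1
  exact congrArg Subtype.val h1

/-- The pair `(r, r⁻¹)` generates `F × F` as a ring. -/
theorem closure_pair_eq_top (hF : Fintype.card F = p ^ f) {r : F} (hr : r ≠ 0)
    (hgen : Subring.closure ({r} : Set F) = ⊤) (h : ∀ i < f, r ^ (p ^ i + 1) ≠ 1) :
    Subring.closure ({(r, r⁻¹)} : Set (F × F)) = ⊤ := by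
  classical
  set R := Subring.closure ({(r, r⁻¹)} : Set (F × F)) with hR
  have hfst : ∀ a : F, ∃ b, (a, b) ∈ R := by
    intro a
    have h1 : Subring.closure ({r} : Set F) ≤ R.map (RingHom.fst F F) := by
      refine Subring.closure_le.2 ?_
      rintro x rfl
      exact ⟨(x, x⁻¹), Subring.subset_closure rfl, rfl⟩
    obtain ⟨⟨a', b⟩, hb, rfl⟩ := h1 (by rw [hgen]; exact Subring.mem_top a)
    exact ⟨b, hb⟩
  have hsnd : ∀ b : F, ∃ a, (a, b) ∈ R := by
    intro b
    have h1 : Subring.closure ({r⁻¹} : Set F) ≤ R.map (RingHom.snd F F) := by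
      refine Subring.closure_le.2 ?_
      rintro x rfl
      exact ⟨(r, r⁻¹), Subring.subset_closure rfl, rfl⟩
    have h2 : Subring.closure ({r⁻¹} : Set F) = ⊤ := by
      refine eq_top_iff.2 (hgen ▸ Subring.closure_le.2 ?_)
      rintro x rfl
      -- `r` is a power of its inverse
      have hx : x = (x⁻¹) ^ (Fintype.card F - 2) := by
        have h3 : x⁻¹ ^ (Fintype.card F - 1) = 1 :=
          FiniteField.pow_card_sub_one_eq_one _ (inv_ne_zero hr)
        have h4 : Fintype.card F - 1 = (Fintype.card F - 2) + 1 := by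
          have := Fintype.one_lt_card (α := F)
          omega
        rw [h4, pow_succ] at h3
        rw [eq_inv_of_mul_eq_one_left h3, inv_inv]
      have hm : x⁻¹ ^ (Fintype.card F - 2) ∈ Subring.closure ({x⁻¹} : Set F) :=
        Subring.pow_mem _ (Subring.subset_closure (Set.mem_singleton x⁻¹)) _
      rw [← hx] at hm
      exact hm
    obtain ⟨⟨a, b'⟩, hb, rfl⟩ := h1 (by rw [h2]; exact Subring.mem_top b)
    exact ⟨a, hb⟩
  by_cases hker : ∃ b, b ≠ 0 ∧ ((0 : F), b) ∈ R
  · obtain ⟨b, hb, hbR⟩ := hker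
    have hall : ∀ c : F, ((0 : F), c) ∈ R := fun c => by
      obtain ⟨a, ha⟩ := hsnd (c / b)
      have := R.mul_mem ha hbR
      rwa [Prod.mk_mul_mk, mul_zero, div_mul_cancel₀ _ hb] at this
    refine eq_top_iff.2 fun ⟨a, c⟩ _ => ?_
    obtain ⟨d, hd⟩ := hfst a
    have := R.add_mem hd (hall (c - d))
    rwa [Prod.mk_add_mk, add_zero, add_sub_cancel] at this
  · exfalso
    push Not at hker
    have huniq : ∀ a b c, (a, b) ∈ R → (a, c) ∈ R → b = c := by
      intro a b c hb hc
      by_contra hne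
      exact hker (b - c) (sub_ne_zero.2 hne) (by simpa using R.sub_mem hb hc)
    choose g hg using hfst
    let σ : F →+* F :=
      { toFun := g
        map_one' := huniq 1 _ _ (hg 1) R.one_mem
        map_mul' := fun a b => huniq _ _ _ (hg _) (R.mul_mem (hg a) (hg b))
        map_zero' := huniq 0 _ _ (hg 0) R.zero_mem
        map_add' := fun a b => huniq _ _ _ (hg _) (R.add_mem (hg a) (hg b)) }
    obtain ⟨i, hi, hσ⟩ := ringHom_eq_pow hF σ
    refine h i hi ?_
    have h1 : σ r = r⁻¹ := huniq r _ _ (hg r) (Subring.subset_closure rfl)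
    rw [hσ] at h1
    rw [pow_succ, h1, inv_mul_cancel₀ hr]

end CfsgLib.SLGen
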