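import Mathlib
import Cfsg.Agent.Lib.AutPSL.Main
import Cfsg.Agent.Lib.SLGen.RingPair

/-!
Generation of `SL_{n+1}` by one diagonal element and one transvection times a monomial cycle.
-/

set_option autoImplicit false

namespace CfsgLib.SLGen

open Matrix CfsgLib.AutPSL
open Fin.NatCast Fin.CommRing

variable {n : ℕ} {K : Type*} [Field K]

local notation "SLn" => Matrix.SpecialLinearGroup (Fin (n + 1)) K

theorem xr_coe {i j : Fin (n + 1)} (hij : i ≠ j) (t : K) : (xr hij t).1 = transvection i j t := by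
  rw [xr_eq_transvection, Matrix.SpecialLinearGroup.transvection_coe, Matrix.transvection]

theorem xr_inv {i j : Fin (n + 1)} (hij : i ≠ j) (t : K) : (xr hij t)⁻¹ = xr hij (-t) :=
  inv_eq_of_mul_eq_one_right (by rw [xr_mul, add_neg_cancel, xr_zero])

theorem xr_commutator {i j k : Fin (n + 1)} (hij : i ≠ j) (hjk : j ≠ k) (hik : i ≠ k) (s t : K) :
    xr hij s * xr hjk t * (xr hij s)⁻¹ * (xr hjk t)⁻¹ = xr hik (s * t) := by
  suffices h : xr hij s * xr hjk t = xr hik (s * t) * xr hjk t * xr hij s by rw [h]; group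
  apply Subtype.ext
  simp [Matrix.SpecialLinearGroup.coe_mul, xr_coe, transvection, mul_add, add_mul,
    Matrix.single_mul_single_of_ne, hij, hij.symm, hjk, hjk.symm, hik, hik.symm]
  abel

theorem mul_xr_of_diag {g : SLn} {D : Fin (n + 1) → K} (hg : g.1 = diagonal D) {i j : Fin (n + 1)}
    (hij : i ≠ j) (hj : D j ≠ 0) (t : K) : g * xr hij t = xr hij (D i * t / D j) * g := by
  apply Subtype.ext
  simp only [Matrix.SpecialLinearGroup.coe_mul, xr_coe, transvection, hg, mul_add, add_mul, one_mul, mul_one]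
  congr 1
  ext a b
  rw [Matrix.diagonal_mul, Matrix.mul_diagonal]
  by_cases hab : i = a ∧ j = b
  · obtain ⟨rfl, rfl⟩ := hab
    simp; field_simp
  · simp [Matrix.single_apply, hab]

/-- The cyclic monomial matrix. -/
def cycMat (e : Fin (n + 1) → K) : Matrix (Fin (n + 1)) (Fin (n + 1)) K :=
  Matrix.of fun i j => if j = i + 1 then e i else 0

theorem cycMat_mul_diagonal (e D : Fin (n + 1) → K) :
    cycMat e * diagonal D = diagonal (fun i => D (i + 1)) * cycMat e := by
  ext a b
  rw [Matrix.mul_diagonal, Matrix.diagonal_mul]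
  by_cases h : b = a + 1
  · subst h; simp [cycMat, mul_comm]
  · simp [cycMat, h]

theorem cycMat_mul_xr (e : Fin (n + 1) → K) (he : ∀ i, e i ≠ 0) {i j : Fin (n + 1)} (hij : i + 1 ≠ j + 1)
    (h' : i ≠ j) (t : K) :
    cycMat e * (xr hij t).1 = (xr h' (e i * t / e j)).1 * cycMat e := by
  simp only [xr_coe, transvection, mul_add, add_mul, one_mul, mul_one]
  congr 1
  ext a b
  by_cases hb : b = j + 1
  · subst hb
    rw [Matrix.mul_single_apply_same]
    by_cases ha : a = i
    · subst ha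
      rw [Matrix.single_mul_apply_same]
      simp [cycMat]
      field_simp [he j]
    · rw [Matrix.single_mul_apply_of_ne _ _ _ _ _ ha]
      simp [cycMat, Ne.symm ha]
  · rw [Matrix.mul_single_apply_of_ne _ _ _ _ _ hb]
    by_cases ha : a = i
    · subst ha
      rw [Matrix.single_mul_apply_same]
      simp [cycMat, hb]
    · rw [Matrix.single_mul_apply_of_ne _ _ _ _ _ ha]

theorem cast_succ_ne (hn : 1 ≤ n) (i : Fin (n + 1)) : i ≠ i + 1 := by
  intro h
  have h1 : (1 : Fin (n + 1)) = 0 := by simpa using h.symm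
  have := congrArg Fin.val h1
  simp [Fin.val_one', Nat.mod_eq_of_lt (show 1 < n + 1 by omega)] at this

/-- A subgroup containing one root subgroup `X_{01}` and the cycle is everything. -/
theorem eq_top_of_cycle (hn : 1 ≤ n) {H : Subgroup SLn} (e : Fin (n + 1) → K) (he : ∀ i, e i ≠ 0)
    {w : SLn} (hw : w.1 = cycMat e) (hwH : w ∈ H)
    (h01 : ∀ t : K, xr (cast_succ_ne hn 0) t ∈ H) : H = ⊤ := by
  classical
  have step : ∀ {i j : Fin (n + 1)} (hij : i + 1 ≠ j + 1) (h' : i ≠ j),
      (∀ t, xr hij t ∈ H) → ∀ t, xr h' t ∈ H := by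
    intro i j hij h' h t
    have key : w * xr hij (e j * t / e i) = xr h' t * w := by
      apply Subtype.ext
      rw [Matrix.SpecialLinearGroup.coe_mul, Matrix.SpecialLinearGroup.coe_mul, hw, cycMat_mul_xr e he hij h']
      congr 3
      field_simp [he i, he j]
    rw [← mul_inv_cancel_right (xr h' t) w, ← key]
    exact H.mul_mem (H.mul_mem hwH (h _)) (H.inv_mem hwH)
  have down : ∀ (m : ℕ), ∀ t, xr (cast_succ_ne hn (-(m : Fin (n + 1)))) t ∈ H := by
    intro m
    induction m with
    | zero => simpa using h01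
    | succ m ih =>
      have e1 : -((m + 1 : ℕ) : Fin (n + 1)) + 1 = -(m : Fin (n + 1)) := by push_cast; ring
      refine step (?_ : _ ≠ _) _ ?_
      · rw [e1]; exact cast_succ_ne hn _
      · intro t
        have := ih t
        convert this using 3
  have hsucc : ∀ (i : Fin (n + 1)) t, xr (cast_succ_ne hn i) t ∈ H := by
    intro i t
    have := down (-i).val t
    convert this using 2 <;> simp
  have hall : ∀ (k : ℕ) (i j : Fin (n + 1)) (hij : i ≠ j), j = i + (k : Fin (n + 1)) → ∀ t, xr hij t ∈ H := by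
    intro k
    induction k with
    | zero => intro i j hij h; exact absurd (by simpa using h.symm) hij
    | succ k ih =>
      intro i j hij h t
      by_cases hm : i + (k : Fin (n + 1)) = i
      · have hj : j = i + 1 := by rw [h, Nat.cast_succ, ← add_assoc, hm]
        subst hj
        exact hsucc i t
      · by_cases hm2 : i + (k : Fin (n + 1)) = j
        · exact ih i j hij hm2.symm t
        · have hjm : j = i + (k : Fin (n + 1)) + 1 := by rw [h, Nat.cast_succ, add_assoc]
          have hmem : ∀ s, xr hm2 s ∈ H := by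
            intro s
            have := hsucc (i + (k : Fin (n + 1))) s
            convert this using 3
          rw [show t = t * 1 by ring, ← xr_commutator (Ne.symm hm) hm2 hij]
          have h1 := ih i _ (Ne.symm hm) rfl t
          exact H.mul_mem (H.mul_mem (H.mul_mem h1 (hmem 1)) (H.inv_mem h1)) (H.inv_mem (hmem 1))
  have hall' : ∀ (i j : Fin (n + 1)) (hij : i ≠ j) (t : K), xr hij t ∈ H := fun i j hij t =>
    hall (j - i).val i j hij (by simp) t
  haveI : Nontrivial (Fin (n + 1)) := ⟨⟨0, 1, by simpa using cast_succ_ne hn 0⟩⟩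
  refine eq_top_iff.2 fun M _ => ?_
  refine Matrix.SpecialLinearGroup.diagonal_transvection_induction' (· ∈ H) M
    (fun i j hij c hc => ?_) (fun i j hij c => ?_) fun A B => H.mul_mem
  · rw [diag2n_eq hij c hc]
    exact H.mul_mem (H.mul_mem (H.mul_mem (H.mul_mem (H.mul_mem (hall' _ _ _ _) (hall' _ _ _ _))
      (hall' _ _ _ _)) (hall' _ _ _ _)) (hall' _ _ _ _)) (hall' _ _ _ _)
  · rw [← xr_eq_transvection]; exact hall' _ _ _ _

theorem cyc_w_eq (hn : 1 ≤ n) {w : SLn} (hw : w.1 = Matrix.of (fun i j =>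
      if j.val = i.val + 1 then 1 else if i.val = n ∧ j.val = 0 then (-1) ^ n else 0)) :
    ∃ e : Fin (n + 1) → K, (∀ i, e i ≠ 0) ∧ w.1 = cycMat e := by
  refine ⟨fun i => if i.val = n then (-1) ^ n else 1, fun i => ?_, ?_⟩
  · by_cases hi : i.val = n <;> simp [hi]
  rw [hw]
  ext i j
  have hi := i.2
  have hj := j.2
  have key : j = i + 1 ↔ j.val = i.val + 1 ∨ (i.val = n ∧ j.val = 0) := by
    rw [Fin.ext_iff, Fin.val_add, Fin.val_one', Nat.mod_eq_of_lt (show 1 < n + 1 by omega)]
    rcases Nat.lt_or_ge (i.val + 1) (n + 1) with h1 | h1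
    · rw [Nat.mod_eq_of_lt h1]; omega
    · rw [show i.val + 1 = n + 1 by omega, Nat.mod_self]; omega
  simp only [cycMat, Matrix.of_apply, key]
  split_ifs <;> first | rfl | omega

theorem two_gen_large [Fintype K] (hK : 3 < Fintype.card K) (hn : 1 ≤ n) (k : Kˣ)
    (hk : ∀ u : Kˣ, u ∈ Subgroup.zpowers k) (h x w : SLn)
    (hh : h.1 = Matrix.diagonal (fun i => if i.val = 0 then (k : K) else if i.val = 1 then ((k⁻¹ : Kˣ) : K) else 1))
    (hx : x.1 = Matrix.transvection (0 : Fin (n + 1)) (1 : Fin (n + 1)) 1)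
    (hw : w.1 = Matrix.of (fun i j =>
      if j.val = i.val + 1 then 1 else if i.val = n ∧ j.val = 0 then (-1) ^ n else 0)) :
    Subgroup.closure ({h, x * w} : Set SLn) = ⊤ := by
  classical
  obtain ⟨e, he, hwe⟩ := cyc_w_eq hn hw
  set H := Subgroup.closure ({h, x * w} : Set SLn) with hHdef
  have hhH : h ∈ H := Subgroup.subset_closure (Or.inl rfl)
  have hyH : x * w ∈ H := Subgroup.subset_closure (Or.inr rfl)
  have h01 : (0 : Fin (n + 1)) ≠ 0 + 1 := cast_succ_ne hn 0
  have hxe : x = xr h01 1 := Subtype.ext (by rw [xr_coe, hx, zero_add])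
  set D : Fin (n + 1) → K :=
    fun i => if i.val = 0 then (k : K) else if i.val = 1 then ((k⁻¹ : Kˣ) : K) else 1 with hD
  have hD0 : ∀ i, D i ≠ 0 := fun i => by simp only [hD]; split_ifs <;> simp
  have hh' : h.1 = diagonal D := hh
  obtain ⟨d, hd⟩ : ∃ d, d = w * h * w⁻¹ := ⟨_, rfl⟩
  have hdd : d.1 = diagonal (fun i => D (i + 1)) := by
    have e1 : d.1 * w.1 = diagonal (fun i => D (i + 1)) * w.1 := by
      rw [← Matrix.SpecialLinearGroup.coe_mul, hd, inv_mul_cancel_right, Matrix.SpecialLinearGroup.coe_mul,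
        hwe, hh', cycMat_mul_diagonal]
    have hu : IsUnit w.1 := (Matrix.isUnit_iff_isUnit_det _).2 (by rw [w.2]; exact isUnit_one)
    exact hu.mul_right_cancel e1
  set a := D 0 / D (0 + 1) with ha
  set β := D (0 + 1) / D (0 + 1 + 1) with hβ
  have v1 : ((0 : Fin (n + 1)) + 1).val = 1 := by
    simp [Fin.val_one', Nat.mod_eq_of_lt (show 1 < n + 1 by omega)]
  have hk1 : orderOf k = Fintype.card K - 1 := by
    rw [orderOf_eq_card_of_forall_mem_zpowers hk, Nat.card_eq_fintype_card, Fintype.card_units]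
  have hk0 : (k : K) ≠ 0 := k.ne_zero
  have hsq : (k : K) ^ 2 ≠ 1 := fun h2 => by
    have h3 : k ^ 2 = 1 := Units.ext (by simpa using h2)
    have := Nat.le_of_dvd two_pos (hk1 ▸ orderOf_dvd_of_pow_eq_one h3)
    omega
  have hak : a = (k : K) ^ 2 := by
    simp only [ha, hD, v1]
    simp
    ring
  have hβne : β ≠ 1 := by
    intro hb
    have hb' : D (0 + 1) = D (0 + 1 + 1) := by rwa [hβ, div_eq_one_iff_eq (hD0 _)] at hb
    simp only [hD, v1] at hb'
    have hk1' : (k : K) ≠ 1 := fun h1 => hsq (by rw [h1, one_pow])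
    rcases eq_or_lt_of_le hn with rfl | hn2
    · have : ((0 : Fin (1 + 1)) + 1 + 1).val = 0 := rfl
      simp only [this] at hb'; simp at hb'
      exact hsq (by rw [pow_two]; nth_rewrite 1 [← hb']; simp)
    · have : ((0 : Fin (n + 1)) + 1 + 1).val = 2 := by
        rw [Fin.val_add, v1]
        simp [Fin.val_one', Nat.mod_eq_of_lt (show 1 < n + 1 by omega), Nat.mod_eq_of_lt (show 2 < n + 1 by omega)]
      simp only [this] at hb'; simp at hb'
      exact hk1' (by simp [hb'])
  set c := (a - 1) * (1 - β) with hc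
  have hc0 : c ≠ 0 := mul_ne_zero (sub_ne_zero.2 (by rwa [hak])) (sub_ne_zero.2 (Ne.symm hβne))
  have hxc : xr h01 c ∈ H := by
    have h1 : x * d * x⁻¹ ∈ H := by
      rw [show x * d * x⁻¹ = (x * w) * h * (x * w)⁻¹ by rw [hd]; group]
      exact H.mul_mem (H.mul_mem hyH hhH) (H.inv_mem hyH)
    have hcomm : h * d = d * h := Subtype.ext (by
      rw [Matrix.SpecialLinearGroup.coe_mul, Matrix.SpecialLinearGroup.coe_mul, hh', hdd, diagonal_mul_diagonal,
        diagonal_mul_diagonal]
      exact congrArg diagonal (funext fun i => mul_comm _ _))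
    have hX : ∀ t, h * xr h01 t = xr h01 (a * t) * h := fun t => by
      rw [mul_xr_of_diag hh' h01 (hD0 _), ha, div_mul_eq_mul_div]
    have hY : ∀ t, d * xr h01 t = xr h01 (β * t) * d := fun t => by
      rw [mul_xr_of_diag hdd h01 (hD0 _), hβ, div_mul_eq_mul_div]
    have e2 : h * (x * d * x⁻¹) * h⁻¹ * (x * d * x⁻¹)⁻¹ = xr h01 c := by
      rw [hxe, xr_inv]
      calc h * (xr h01 1 * d * xr h01 (-1)) * h⁻¹ * (xr h01 1 * d * xr h01 (-1))⁻¹
          = (h * xr h01 1) * (d * xr h01 (-1)) * h⁻¹ * xr h01 1 * d⁻¹ * xr h01 (-1) := by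
            rw [_root_.mul_inv_rev, _root_.mul_inv_rev, xr_inv, xr_inv, neg_neg]; group
        _ = xr h01 a * h * (xr h01 (-β) * d) * h⁻¹ * xr h01 1 * d⁻¹ * xr h01 (-1) := by
            rw [hX, hY, mul_one, mul_neg_one]
        _ = xr h01 a * (h * xr h01 (-β)) * d * h⁻¹ * xr h01 1 * d⁻¹ * xr h01 (-1) := by group
        _ = xr h01 a * xr h01 (-(a * β)) * (h * d) * h⁻¹ * xr h01 1 * d⁻¹ * xr h01 (-1) := by
            rw [hX, mul_neg]; group
        _ = xr h01 a * xr h01 (-(a * β)) * (d * xr h01 1) * d⁻¹ * xr h01 (-1) := by rw [hcomm]; group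
        _ = xr h01 a * xr h01 (-(a * β)) * xr h01 β * xr h01 (-1) := by rw [hY, mul_one]; group
        _ = xr h01 c := by rw [xr_mul, xr_mul, xr_mul, hc]; congr 1; ring
    rw [← e2]
    exact H.mul_mem (H.mul_mem (H.mul_mem hhH h1) (H.inv_mem hhH)) (H.inv_mem h1)
  -- the set of parameters is closed under multiplication by `k ^ 2`
  let A : AddSubgroup K :=
    { carrier := {t | xr h01 t ∈ H}
      zero_mem' := by show xr h01 0 ∈ H; rw [xr_zero]; exact H.one_mem
      add_mem' := fun {s t} hs ht => by show xr h01 (s + t) ∈ H; rw [← xr_mul]; exact H.mul_mem hs ht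
      neg_mem' := fun {t} ht => by show xr h01 (-t) ∈ H; rw [← xr_inv]; exact H.inv_mem ht }
  have hmulA : ∀ t ∈ A, a * t ∈ A := by
    intro t ht
    show xr h01 (a * t) ∈ H
    rw [← mul_inv_cancel_right (xr h01 (a * t)) h,
      show xr h01 (a * t) * h = h * xr h01 t by rw [mul_xr_of_diag hh' h01 (hD0 _), ha, div_mul_eq_mul_div]]
    exact H.mul_mem (H.mul_mem hhH ht) (H.inv_mem hhH)
  let R : Subring K :=
    { carrier := {r | ∀ t ∈ A, r * t ∈ A}
      zero_mem' := fun t _ => by rw [zero_mul]; exact A.zero_mem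
      one_mem' := fun t ht => by rwa [one_mul]
      add_mem' := fun {r s} hr hs t ht => by rw [add_mul]; exact A.add_mem (hr t ht) (hs t ht)
      neg_mem' := fun {r} hr t ht => by rw [neg_mul]; exact A.neg_mem (hr t ht)
      mul_mem' := fun {r s} hr hs t ht => by rw [mul_assoc]; exact hr _ (hs t ht) }
  obtain ⟨p, hp⟩ := CharP.exists K
  haveI := hp
  obtain ⟨f, hpr, hf⟩ := FiniteField.card K p
  haveI := Fact.mk hpr
  have htop : Subring.closure ({a} : Set K) = ⊤ := by
    rw [hak]
    refine closure_eq_top hf (pow_ne_zero _ hk0) fun i hi0 hif hpow => ?_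
    rw [← pow_mul] at hpow
    have h1 : k ^ (2 * (p ^ i - 1)) = 1 := Units.ext (by simpa using hpow)
    have h2 := orderOf_dvd_of_pow_eq_one h1
    rw [hk1, hf] at h2
    have h3 : p ^ i * 2 ≤ p ^ (f : ℕ) := calc
      p ^ i * 2 ≤ p ^ i * p := Nat.mul_le_mul_left _ hpr.two_le
      _ = p ^ (i + 1) := (pow_succ p i).symm
      _ ≤ p ^ (f : ℕ) := Nat.pow_le_pow_right hpr.pos hif
    have h4 : 1 < p ^ i := Nat.one_lt_pow hi0.ne' hpr.one_lt
    have := Nat.le_of_dvd (by omega) h2
    omega
  have hR : R = ⊤ := by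
    rw [eq_top_iff, ← htop, Subring.closure_le, Set.singleton_subset_iff]
    exact hmulA
  have hall : ∀ t : K, xr h01 t ∈ H := fun t => by
    have := (show t / c ∈ R from hR ▸ Subring.mem_top _) c hxc
    rwa [div_mul_cancel₀ _ hc0] at this
  have hwH : w ∈ H := by
    rw [show w = x⁻¹ * (x * w) by group, hxe, xr_inv, ← hxe]
    exact H.mul_mem (hall _) hyH
  exact eq_top_of_cycle hn e he hwe hwH hall

theorem two_gen_small [Fintype K] (hK : Fintype.card K ≤ 3) (hn : 1 ≤ n) (x w : SLn)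
    (hx : x.1 = Matrix.transvection (0 : Fin (n + 1)) (1 : Fin (n + 1)) 1)
    (hw : w.1 = Matrix.of (fun i j =>
      if j.val = i.val + 1 then 1 else if i.val = n ∧ j.val = 0 then (-1) ^ n else 0)) :
    Subgroup.closure ({x, w} : Set SLn) = ⊤ := by
  classical
  obtain ⟨e, he, hwe⟩ := cyc_w_eq hn hw
  set H := Subgroup.closure ({x, w} : Set SLn)
  have h01 : (0 : Fin (n + 1)) ≠ 0 + 1 := cast_succ_ne hn 0
  have hxe : x = xr h01 1 := Subtype.ext (by rw [xr_coe, hx, zero_add])
  let A : AddSubgroup K :=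
    { carrier := {t | xr h01 t ∈ H}
      zero_mem' := by show xr h01 0 ∈ H; rw [xr_zero]; exact H.one_mem
      add_mem' := fun {s t} hs ht => by show xr h01 (s + t) ∈ H; rw [← xr_mul]; exact H.mul_mem hs ht
      neg_mem' := fun {t} ht => by show xr h01 (-t) ∈ H; rw [← xr_inv]; exact H.inv_mem ht }
  have h1 : (1 : K) ∈ A := by show xr h01 1 ∈ H; rw [← hxe]; exact Subgroup.subset_closure (Or.inl rfl)
  have hp : (Nat.card K).Prime := by
    have := Fintype.one_lt_card (α := K)
    rw [Nat.card_eq_fintype_card]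
    rcases (show Fintype.card K = 2 ∨ Fintype.card K = 3 by omega) with h | h <;> rw [h] <;> norm_num
  haveI := Fact.mk hp
  have hA : A = ⊤ := A.eq_bot_or_eq_top_of_prime_card.resolve_left fun hb =>
    one_ne_zero ((AddSubgroup.eq_bot_iff_forall A).1 hb 1 h1)
  exact eq_top_of_cycle hn e he hwe (Subgroup.subset_closure (Or.inr rfl)) fun t =>
    (hA ▸ AddSubgroup.mem_top t : t ∈ A)

end CfsgLib.SLGen
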