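import Mathlib
import Cfsg.Agent.Lib.SLGen.Criterion

/-!
`SL_n` is generated by three conjugate regular unipotent elements.
-/

set_option autoImplicit false

namespace CfsgLib.SLGen

open Matrix CfsgLib.AutPSL

variable {n : ℕ} {F : Type*} [Field F]

/-- The nilpotent Jordan block. -/
def jN (n : ℕ) (F : Type*) [Field F] : Matrix (Fin n) (Fin n) F :=
  Matrix.of fun i j => if j.val = i.val + 1 then 1 else 0

theorem jN_mulVec_ev (j : Fin n) :
    jN n F *ᵥ ev j =
      if h : 0 < j.val then ev ⟨j.val - 1, by omega⟩ else 0 := by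
  funext i
  rw [ev, Matrix.mulVec_single_one, Matrix.col_apply]
  split_ifs with h
  · by_cases hi : j.val = i.val + 1
    · simp [jN, hi, ev, Fin.ext_iff]
    · simp [jN, hi, ev, Pi.single_apply, Fin.ext_iff]
      omega
  · simp [jN]; omega

theorem ev_vecMul_jN (j : Fin n) :
    (ev j : Fin n → F) ᵥ* jN n F =
      if h : j.val + 1 < n then ev ⟨j.val + 1, h⟩ else 0 := by
  funext i
  rw [ev, Matrix.single_one_vecMul, Matrix.row_apply]
  split_ifs with h
  · simp [jN, ev, Pi.single_apply, Fin.ext_iff]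
  · simp [jN]; omega

theorem jN_pow_mulVec_ev (j : Fin n) : ∀ k : ℕ,
    jN n F ^ k *ᵥ ev j = if k ≤ j.val then ev ⟨j.val - k, by omega⟩ else 0
  | 0 => by simp
  | k + 1 => by
    rw [pow_succ', ← Matrix.mulVec_mulVec, jN_pow_mulVec_ev j k]
    by_cases h : k + 1 ≤ j.val
    · rw [if_pos (by omega : k ≤ j.val), jN_mulVec_ev, dif_pos (by simp; omega), if_pos h]
      congr 1
    · rw [if_neg h]
      split_ifs with h'
      · rw [jN_mulVec_ev, dif_neg (by simp; omega)]
      · rw [Matrix.mulVec_zero]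

theorem jN_pow_card : jN n F ^ n = 0 := by
  refine Matrix.ext_of_mulVec_single fun j => ?_
  rw [show (Pi.single j 1 : Fin n → F) = ev j from rfl, jN_pow_mulVec_ev, if_neg (by omega),
    Matrix.zero_mulVec]

theorem jN_pow_ne_zero (hn : 0 < n) : jN n F ^ (n - 1) ≠ 0 := by
  intro h
  have h1 := jN_pow_mulVec_ev (F := F) (⟨n - 1, by omega⟩ : Fin n) (n - 1)
  rw [h, Matrix.zero_mulVec, if_pos le_rfl] at h1
  exact ev_ne_zero _ h1.symm

theorem det_one_add_jN : (1 + jN n F).det = 1 := by
  rw [Matrix.det_of_upperTriangular]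
  · refine Finset.prod_eq_one fun i _ => ?_
    simp [jN]
  · intro i j hij
    have hij' : j.val < i.val := hij
    rw [Matrix.add_apply, Matrix.one_apply_ne (fun h => by subst h; omega)]
    simp [jN]; omega

theorem jN_submatrix_rev : (jN n F).submatrix Fin.rev Fin.rev = (jN n F)ᵀ := by
  ext i j
  simp only [jN, Matrix.submatrix_apply, Matrix.transpose_apply, Matrix.of_apply, Fin.val_rev]
  congr 1
  simp only [eq_iff_iff]
  omega

/-- The key: three elements generate. -/
theorem three_gen (hn : 3 ≤ n) {H : Subgroup (Matrix.SpecialLinearGroup (Fin n) F)} {ω : F}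
    (hgen : Subring.closure ({ω} : Set F) = ⊤) {U : Matrix (Fin n) (Fin n) F}
    (hU : Mem H U) (hW : Mem H (1 + (jN n F)ᵀ))
    (hx : XMem H ⟨0, by omega⟩ ⟨n - 1, by omega⟩ 1)
    (hU1 : U *ᵥ ev ⟨1, by omega⟩ = ω • ev ⟨0, by omega⟩ + ev ⟨1, by omega⟩)
    (hU2 : ev ⟨n - 1, by omega⟩ ᵥ* U = ev ⟨n - 1, by omega⟩) : H = ⊤ := by
  classical
  set z : Fin n := ⟨0, by omega⟩ with hz
  set L : Fin n := ⟨n - 1, by omega⟩ with hL
  set w : Matrix (Fin n) (Fin n) F := 1 + (jN n F)ᵀ with hw
  obtain ⟨hwel, hwmem, hwval⟩ := id hW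
  set W : Matrix (Fin n) (Fin n) F := (hwel⁻¹).1 with hWdef
  have hwW : w * W = 1 := by
    rw [← hwval, hWdef, ← Matrix.SpecialLinearGroup.coe_mul, mul_inv_cancel,
      Matrix.SpecialLinearGroup.coe_one]
  have hWw : W * w = 1 := mul_eq_one_comm.1 hwW
  have hzL : z ≠ L := by simp [hz, hL, Fin.ext_iff]; omega
  -- the two basic vectors
  set ψ : Fin n → F := fun i => (-1) ^ (n - 1 - i.val) with hψ
  have hψW : (ev L : Fin n → F) ᵥ* W = ψ := by
    have h1 : ψ ᵥ* w = ev L := by
      funext j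
      rw [hw, Matrix.vecMul_add, Matrix.vecMul_one, Matrix.vecMul_transpose, Pi.add_apply,
        Matrix.mulVec, dotProduct]
      by_cases hj : j.val + 1 < n
      · rw [Finset.sum_eq_single (⟨j.val + 1, hj⟩ : Fin n)]
        · have e : n - 1 - j.val = (n - 1 - (j.val + 1)) + 1 := by omega
          simp only [hψ, jN, Matrix.of_apply, if_pos, one_mul]
          rw [e, pow_succ, ev, Pi.single_eq_of_ne (by simp [hL, Fin.ext_iff]; omega)]
          ring
        · intro i _ hi
          simp only [jN, Matrix.of_apply]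
          rw [if_neg (fun h => hi (Fin.ext h)), zero_mul]
        · intro h; exact absurd (Finset.mem_univ _) h
      · rw [Finset.sum_eq_zero (fun i _ => by simp only [jN, Matrix.of_apply]; rw [if_neg (by omega), zero_mul]),
          add_zero]
        have hjL : j = L := by apply Fin.ext; simp [hL]; omega
        subst hjL
        simp [hψ, hL, ev]
    rw [← h1, Matrix.vecMul_vecMul, hwW, Matrix.vecMul_one]
  set b : Fin n → F := fun i => (-1) ^ i.val with hb
  have hWb : W *ᵥ ev z = b := by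
    have h1 : w *ᵥ b = ev z := by
      funext j
      rw [hw, Matrix.add_mulVec, Matrix.one_mulVec, Pi.add_apply, Matrix.mulVec, dotProduct]
      by_cases hj : 0 < j.val
      · rw [Finset.sum_eq_single (⟨j.val - 1, by omega⟩ : Fin n)]
        · have e : j.val = (j.val - 1) + 1 := by omega
          simp only [hb, jN, Matrix.transpose_apply, Matrix.of_apply]
          rw [if_pos e, one_mul, ev, Pi.single_eq_of_ne (by simp [hz, Fin.ext_iff]; omega)]
          nth_rewrite 1 [e]
          rw [pow_succ]; ring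
        · intro i _ hi
          simp only [jN, Matrix.transpose_apply, Matrix.of_apply]
          rw [if_neg (fun h => hi (Fin.ext (by simp; omega))), zero_mul]
        · intro h; exact absurd (Finset.mem_univ _) h
      · rw [Finset.sum_eq_zero (fun i _ => by
          simp only [jN, Matrix.transpose_apply, Matrix.of_apply]; rw [if_neg (by omega), zero_mul]),
          add_zero]
        have hjz : j = z := by apply Fin.ext; simp [hz]; omega
        subst hjz
        simp [hb, hz, ev]
    rw [← h1, Matrix.mulVec_mulVec, hWw, Matrix.one_mulVec]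
  have hsign : ∀ k : ℕ, ((-1 : F) ^ k = 1 ∨ (-1 : F) ^ k = -1) := neg_one_pow_eq_or F
  have hev : ∀ i : Fin n, ψ ⬝ᵥ ev i = ψ i := fun i => dotProduct_single_one _ _
  have hwev : ∀ (k : Fin n) (hk : k.val + 1 < n),
      w *ᵥ ev k = ev k + ev ⟨k.val + 1, hk⟩ := by
    intro k hk
    rw [hw, Matrix.add_mulVec, Matrix.one_mulVec, Matrix.mulVec_transpose, ev_vecMul_jN, dif_pos hk]
  -- the last column
  have hA : ∀ k : ℕ, ∀ hk : k < n - 1, XMem H ⟨k, by omega⟩ L 1 := by
    intro k
    induction k with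
    | zero => intro hk; exact hx
    | succ k ih =>
      intro hk
      have hkk := ih (by omega)
      have hne : (⟨k, by omega⟩ : Fin n) ≠ L := by simp [hL, Fin.ext_iff]; omega
      have hne' : (⟨k + 1, by omega⟩ : Fin n) ≠ L := by simp [hL, Fin.ext_iff]; omega
      have h0 := hkk.root hne
      rw [one_smul] at h0
      have h1 := h0.conj hW hwW
      rw [hψW, hwev ⟨k, by omega⟩ (show k + 1 < n by omega)] at h1
      have hz0 := hx.root hzL
      rw [one_smul] at hz0
      have h2 := h1.comm hz0 (by rw [dotProduct_add, ev_dot hne, ev_dot hne', add_zero])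
      rw [hev] at h2
      have h3 := (h2.signed (hsign _)).left_cancel h0
      exact XMem.of_root (by rwa [one_smul]) hne'
  -- the first row
  have hB : ∀ d : ℕ, ∀ hd : d + 1 < n, XMem H z ⟨n - 1 - d, by omega⟩ 1 := by
    intro d
    induction d with
    | zero => intro _; exact hx
    | succ d ih =>
      intro hd
      have hj := ih (by omega)
      set j : Fin n := ⟨n - 1 - d, by omega⟩ with hjdef
      set j' : Fin n := ⟨n - 1 - (d + 1), by omega⟩ with hj'def
      have hne : z ≠ j := by simp [hz, hjdef, Fin.ext_iff]; omega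
      have hne' : z ≠ j' := by simp [hz, hj'def, Fin.ext_iff]; omega
      have h0 := hj.root hne
      rw [one_smul] at h0
      have h1 := h0.conj (hW.inv hwW) hWw
      have hrow : (ev j : Fin n → F) ᵥ* w = ev j + ev j' := by
        rw [hw, Matrix.vecMul_add, Matrix.vecMul_one, Matrix.vecMul_transpose, jN_mulVec_ev,
          dif_pos (by simp [hjdef]; omega)]
        congr 2
      rw [hWb, hrow] at h1
      have hz0 := hx.root hzL
      rw [one_smul] at hz0
      have h2 := hz0.comm h1 (by rw [add_dotProduct, ev_dot hne, ev_dot hne', add_zero])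
      rw [show (ev L : Fin n → F) ⬝ᵥ b = b L from single_one_dotProduct _ _] at h2
      have h3 := (h2.signed (hsign _)).right_cancel h0
      exact XMem.of_root (by rwa [one_smul]) hne'
  -- the last row
  set e' : Fin n := ⟨n - 2, by omega⟩ with he'
  have he'L : e' ≠ L := by simp [he', hL, Fin.ext_iff]; omega
  set ψ' : Fin n → F := ψ + ψ e' • ev L with hψ'
  have hLψ : Root H (ev L) ψ' := by
    have h0 := (hA (n - 2) (by omega)).root he'L
    rw [one_smul] at h0
    have h1 := h0.conj hW hwW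
    rw [hψW, show (⟨n - 2, _⟩ : Fin n) = e' from rfl, hwev e' (by simp [he']; omega),
      show (⟨e'.val + 1, _⟩ : Fin n) = L from Fin.ext (by simp [he', hL]; omega)] at h1
    have hg : rk1 (ev e') (-(ev L : Fin n → F)) * rk1 (ev e') (ev L) = 1 := by
      simpa using rk1_mul_neg (v := (ev e' : Fin n → F)) (f := -(ev L : Fin n → F))
        (by rw [neg_dotProduct, ev_dot he'L, neg_zero])
    have h2 := h1.conj h0.neg.2 hg
    rwa [rk1, Matrix.add_mulVec, Matrix.one_mulVec, Matrix.vecMulVec_mulVec, op_smul_eq_smul,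
      neg_dotProduct, dotProduct_add, ev_dot he'L, dot_ev_self, zero_add, neg_one_smul,
      add_comm (ev e' : Fin n → F), add_neg_cancel_right, rk1, Matrix.vecMul_add, Matrix.vecMul_one,
      Matrix.vecMul_vecMulVec, hev, ← hψ'] at h2
  have hψ'z : ψ' z = ψ z := by simp [hψ', ev, hzL]
  have hψ'i : ∀ i, i ≠ L → ψ' i = ψ i := fun i hi => by simp [hψ', ev, hi]
  have hψ'L : ψ' L = 0 := by
    simpa [ev] using hLψ.1
  have hC : ∀ j : Fin n, j ≠ z → j ≠ L → XMem H L j 1 := by
    intro j hjz hjL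
    have hj : 0 < j.val := Nat.pos_of_ne_zero fun h => hjz (Fin.ext h)
    have h0 := (hB (n - 1 - j.val) (by omega)).root (by simp [hz, Fin.ext_iff]; omega)
    rw [one_smul, show (⟨n - 1 - (n - 1 - j.val), _⟩ : Fin n) = j from Fin.ext (by simp; omega)] at h0
    have h2 := hLψ.comm h0 (ev_dot hjL.symm)
    rw [show ψ' ⬝ᵥ (ev z : Fin n → F) = ψ' z from dotProduct_single_one _ _, hψ'z] at h2
    exact XMem.of_root (by rw [one_smul]; exact h2.signed (hsign _)) hjL.symm
  have hD : XMem H L z 1 := by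
    have hsum : ψ' = ψ' z • ev z + ∑ i ∈ Finset.univ.erase z, ψ' i • (ev i : Fin n → F) := by
      rw [Finset.add_sum_erase _ (fun i => ψ' i • (ev i : Fin n → F)) (Finset.mem_univ z)]
      exact pi_eq_sum_univ' ψ'
    have hrest : Root H (ev L) (∑ i ∈ Finset.univ.erase z, ψ' i • (ev i : Fin n → F)) := by
      refine Root.sum _ _ fun i hi => ?_
      rcases eq_or_ne i L with rfl | hiL
      · rw [hψ'L, zero_smul]; exact Root.zero _
      · have h1 := (hC i (Finset.mem_erase.1 hi).1 hiL).root hiL.symm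
        rw [one_smul] at h1
        rw [hψ'i i hiL]
        rcases hsign (n - 1 - i.val) with he | he
        · rw [show ψ i = 1 from he, one_smul]; exact h1
        · rw [show ψ i = -1 from he, neg_one_smul]; exact h1.neg
    have h2 : Root H (ev L) (ψ' z • ev z) := by
      have := hLψ
      rw [hsum, add_comm] at this
      exact this.right_cancel hrest
    rw [hψ'z] at h2
    exact XMem.of_root (by rw [one_smul]; exact h2.signed (hsign _)) hzL.symm
  have hrowL : ∀ j, j ≠ L → XMem H L j 1 := fun j hj => by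
    rcases eq_or_ne j z with rfl | hjz
    · exact hD
    · exact hC j hjz hj
  have hcolL : ∀ i, i ≠ L → XMem H i L 1 := fun i hi =>
    hA i.val (by
      have : i.val ≠ n - 1 := fun h => hi (Fin.ext h)
      omega)
  have hall : ∀ i j : Fin n, i ≠ j → XMem H i j 1 := by
    intro i j hij
    rcases eq_or_ne i L with rfl | hiL
    · exact hrowL j hij.symm
    rcases eq_or_ne j L with rfl | hjL
    · exact hcolL i hij
    simpa using (hcolL i hiL).trans hiL hjL.symm hij (hrowL j hjL)
  -- the field parameter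
  refine eq_top_of_xmem hn hall hgen hzL ?_
  obtain ⟨uel, humem, huval⟩ := id hU
  have hUU : U * (uel⁻¹).1 = 1 := by
    rw [← huval, ← Matrix.SpecialLinearGroup.coe_mul, mul_inv_cancel,
      Matrix.SpecialLinearGroup.coe_one]
  set o : Fin n := ⟨1, by omega⟩ with ho
  have hoL : o ≠ L := by simp [ho, hL, Fin.ext_iff]; omega
  have h0 := (hcolL o hoL).root hoL
  rw [one_smul] at h0
  have h1 := h0.conj hU hUU
  have hinv : (ev L : Fin n → F) ᵥ* (uel⁻¹).1 = ev L := by
    conv_lhs => rw [← hU2]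
    rw [Matrix.vecMul_vecMul, hUU, Matrix.vecMul_one]
  rw [hU1, hinv, add_comm] at h1
  exact h1.left_cancel h0

/-- Three conjugate regular unipotent generators. -/
theorem exists_three (hn : 3 ≤ n) [Fintype F] :
    ∃ u g h : Matrix.SpecialLinearGroup (Fin n) F,
      (IsNilpotent ((u : Matrix (Fin n) (Fin n) F) - 1) ∧
        ((u : Matrix (Fin n) (Fin n) F) - 1) ^ (n - 1) ≠ 0) ∧
      Subgroup.closure ({u, g * u * g⁻¹, h * u * h⁻¹} :
        Set (Matrix.SpecialLinearGroup (Fin n) F)) = ⊤ := by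
  classical
  obtain ⟨ω, hω⟩ := IsCyclic.exists_monoid_generator (α := Fˣ)
  have hgen : Subring.closure ({(ω : F)} : Set F) = ⊤ := by
    refine eq_top_iff.2 fun x _ => ?_
    rcases eq_or_ne x 0 with rfl | hx
    · exact zero_mem _
    · obtain ⟨k, hk⟩ := Submonoid.mem_powers_iff _ _ |>.1 (hω (Units.mk0 x hx))
      rw [show x = (ω : F) ^ k by rw [← Units.val_pow_eq_pow_val, hk]; rfl]
      exact pow_mem (Subring.subset_closure (Set.mem_singleton _)) k
  set s : F := (((Equiv.Perm.sign (Fin.revPerm : Equiv.Perm (Fin n))) : ℤ) : F) with hs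
  have hs0 : s * s = 1 := by
    rw [hs, ← Int.cast_mul, Int.units_coe_mul_self, Int.cast_one]
  set d : Fin n → F := fun i =>
    if i.val = 0 then (ω : F) else if i.val = n - 1 then s * (ω : F)⁻¹ else 1 with hd
  have hd0 : ∀ i, d i ≠ 0 := by
    intro i
    have hsne : s ≠ 0 := fun h0 => by simp [h0] at hs0
    simp only [hd]
    split_ifs <;> simp [hsne]
  have hprod : ∏ i, d i = s := by
    set z : Fin n := ⟨0, by omega⟩
    set L : Fin n := ⟨n - 1, by omega⟩
    have hzL : z ≠ L := by simp [z, L, Fin.ext_iff]; omega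
    rw [← Finset.mul_prod_erase Finset.univ d (Finset.mem_univ z),
      ← Finset.mul_prod_erase _ d (Finset.mem_erase.2 ⟨hzL.symm, Finset.mem_univ L⟩),
      Finset.prod_eq_one (fun i hi => ?_)]
    · simp only [hd, z, L, if_pos, mul_one]
      rw [if_neg (by omega : ¬ n - 1 = 0)]
      field_simp
    · obtain ⟨hiL, hiz, -⟩ := Finset.mem_erase.1 hi |>.imp id Finset.mem_erase.1
      simp only [hd]
      rw [if_neg (fun h => hiz (Fin.ext h)), if_neg (fun h => hiL (Fin.ext h))]
  set D : Matrix (Fin n) (Fin n) F := Matrix.diagonal d with hD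
  set E : Matrix (Fin n) (Fin n) F := Matrix.diagonal fun i => (d i)⁻¹ with hE
  have hDE : D * E = 1 := by
    rw [hD, hE, Matrix.diagonal_mul_diagonal, ← Matrix.diagonal_one]
    congr 1; funext i; exact mul_inv_cancel₀ (hd0 i)
  have hED : E * D = 1 := mul_eq_one_comm.1 hDE
  let u : Matrix.SpecialLinearGroup (Fin n) F := ⟨D * (1 + jN n F) * E, by
    rw [Matrix.det_mul_right_comm, hDE, one_mul, det_one_add_jN]⟩
  set P : Matrix (Fin n) (Fin n) F := (1 : Matrix (Fin n) (Fin n) F).submatrix id Fin.rev with hP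
  have hdetP : P.det = s := by
    rw [hP, show (Fin.rev : Fin n → Fin n) = (Fin.revPerm : Equiv.Perm (Fin n)) from rfl,
      Matrix.det_permute', Matrix.det_one, mul_one]
  let h : Matrix.SpecialLinearGroup (Fin n) F := ⟨P * E, by
    rw [Matrix.det_mul, hdetP, hE, Matrix.det_diagonal, Finset.prod_inv_distrib, hprod,
      mul_inv_cancel₀ (fun h0 => by simp [h0] at hs0)]⟩
  have hJP : (1 + (jN n F)ᵀ) * P = P * (1 + jN n F) := by
    rw [hP, add_mul, mul_add, one_mul, mul_one, ← jN_submatrix_rev]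
    congr 1
    ext i j
    simp [Matrix.mul_apply, Matrix.one_apply]
    rw [Finset.sum_eq_single i.rev (fun k _ hk => if_neg fun h => hk (by rw [h, Fin.rev_rev]))
      (fun h => absurd (Finset.mem_univ _) h), if_pos (Fin.rev_rev i).symm]
  have hdetW : (1 + (jN n F)ᵀ).det = 1 := by
    rw [← Matrix.transpose_one, ← Matrix.transpose_add, Matrix.det_transpose, det_one_add_jN]
  let w : Matrix.SpecialLinearGroup (Fin n) F := ⟨1 + (jN n F)ᵀ, hdetW⟩
  have hwh : w * h = h * u := Subtype.ext (by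
    show (1 + (jN n F)ᵀ) * (P * E) = P * E * (D * (1 + jN n F) * E)
    rw [← mul_assoc, hJP]
    simp only [mul_assoc]
    rw [← mul_assoc E D, hED, one_mul])
  let g : Matrix.SpecialLinearGroup (Fin n) F :=
    xr (i := ⟨1, by omega⟩) (j := ⟨n - 1, by omega⟩) (by simp [Fin.ext_iff]; omega) (-(ω : F)⁻¹)
  refine ⟨u, g, h, ⟨?_, ?_⟩, ?_⟩
  all_goals
    have hpow : ∀ k : ℕ, ((u : Matrix (Fin n) (Fin n) F) - 1) ^ k = D * jN n F ^ k * E := by
      intro k
      have hu1 : (u : Matrix (Fin n) (Fin n) F) - 1 = D * jN n F * E := by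
        show D * (1 + jN n F) * E - 1 = _
        rw [mul_add, add_mul, mul_one, hDE, add_sub_cancel_left]
      induction k with
      | zero => rw [pow_zero, pow_zero, mul_one, hDE]
      | succ k ih =>
        rw [pow_succ, ih, hu1, pow_succ]
        simp only [mul_assoc]
        rw [← mul_assoc E D, hED, one_mul]
  · exact ⟨n, by rw [hpow, jN_pow_card, mul_zero, zero_mul]⟩
  · rw [hpow]
    intro h0
    apply jN_pow_ne_zero (F := F) (show 0 < n by omega)
    have h1 := congrArg (fun M => E * M * D) h0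
    simp only [mul_zero, zero_mul, mul_assoc] at h1
    rwa [hED, mul_one, ← mul_assoc, hED, one_mul] at h1
  set H := Subgroup.closure ({u, g * u * g⁻¹, h * u * h⁻¹} :
    Set (Matrix.SpecialLinearGroup (Fin n) F))
  have hu : u ∈ H := Subgroup.subset_closure (by simp)
  have hU1 : u.1 *ᵥ ev ⟨1, by omega⟩ =
      (ω : F) • ev ⟨0, by omega⟩ + ev ⟨1, by omega⟩ := by
    show (D * (1 + jN n F) * E) *ᵥ _ = _
    have hd1 : d ⟨1, by omega⟩ = 1 := by
      simp only [hd]
      rw [if_neg (by omega), if_neg (by omega)]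
    have hEo : E *ᵥ ev (⟨1, by omega⟩ : Fin n) = ev ⟨1, by omega⟩ := by
      rw [hE, ev, Matrix.diagonal_mulVec_single, hd1, inv_one, one_mul]
    rw [← Matrix.mulVec_mulVec, ← Matrix.mulVec_mulVec, hEo, Matrix.add_mulVec, Matrix.one_mulVec,
      jN_mulVec_ev, dif_pos (by simp), hD, Matrix.mulVec_add, ev, Matrix.diagonal_mulVec_single,
      hd1, one_mul, ev, Matrix.diagonal_mulVec_single, mul_one, add_comm]
    congr 1
    simp [hd, ev, ← Pi.single_smul]
  have hU2 : ev ⟨n - 1, by omega⟩ ᵥ* u.1 = ev ⟨n - 1, by omega⟩ := by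
    show _ ᵥ* (D * (1 + jN n F) * E) = _
    rw [← Matrix.vecMul_vecMul, ← Matrix.vecMul_vecMul, hD, ev, Matrix.single_vecMul_diagonal,
      one_mul, hE]
    have hrow : (Pi.single (⟨n - 1, by omega⟩ : Fin n) (d ⟨n - 1, by omega⟩)) =
        d ⟨n - 1, by omega⟩ • (ev ⟨n - 1, by omega⟩ : Fin n → F) := by simp [ev, ← Pi.single_smul]
    rw [hrow, Matrix.smul_vecMul, Matrix.vecMul_add, Matrix.vecMul_one, ev_vecMul_jN,
      dif_neg (by simp; omega), add_zero, Matrix.smul_vecMul, ev, Matrix.single_vecMul_diagonal,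
      one_mul, ← Pi.single_smul, smul_eq_mul, mul_inv_cancel₀ (hd0 _)]
  refine three_gen hn hgen ⟨u, hu, rfl⟩ ⟨h * u * h⁻¹, Subgroup.subset_closure (by simp), ?_⟩ ?_ hU1 hU2
  · rw [← hwh, mul_inv_cancel_right]
  -- the root element
  have hmem : g * u * g⁻¹ * u⁻¹ ∈ H :=
    H.mul_mem (Subgroup.subset_closure (by simp)) (H.inv_mem hu)
  have hne : (⟨1, by omega⟩ : Fin n) ≠ ⟨n - 1, by omega⟩ := by simp [Fin.ext_iff]; omega
  have hzne : (⟨0, by omega⟩ : Fin n) ≠ ⟨n - 1, by omega⟩ := by simp [Fin.ext_iff]; omega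
  refine ⟨dot_smul_ev hzne 1, g * u * g⁻¹ * u⁻¹, hmem, ?_⟩
  have hconj : ∀ (v f : Fin n → F) (hv : f ⬝ᵥ v = 0) (hf : f ᵥ* u.1 = f),
      u * tv v f hv = tv (u.1 *ᵥ v) f (by rw [dotProduct_mulVec, hf, hv]) * u := by
    intro v f hv hf
    apply Subtype.ext
    show u.1 * rk1 v f = rk1 (u.1 *ᵥ v) f * u.1
    rw [rk1, rk1, mul_add, add_mul, mul_one, one_mul, mul_vecMulVec, vecMulVec_mul, hf]
  have hev2 : (ev (⟨n - 1, by omega⟩ : Fin n) : Fin n → F) ᵥ* u.1 = ev ⟨n - 1, by omega⟩ := hU2
  have hginv : g⁻¹ = xr hne (ω : F)⁻¹ := by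
    refine inv_eq_of_mul_eq_one_right ?_
    rw [xr_mul, neg_add_cancel, xr_zero]
  rw [hginv, mul_assoc g u, xr, hconj _ _ _ hev2]
  simp only [mul_assoc, mul_inv_cancel, mul_one]
  show rk1 (-(ω : F)⁻¹ • ev ⟨1, _⟩) (ev ⟨n - 1, _⟩) *
    rk1 (u.1 *ᵥ ((ω : F)⁻¹ • ev ⟨1, _⟩)) (ev ⟨n - 1, _⟩) = rk1 ((1 : F) • ev ⟨0, _⟩) (ev ⟨n - 1, _⟩)
  have hdot : (ev (⟨n - 1, by omega⟩ : Fin n) : Fin n → F) ⬝ᵥ
      (u.1 *ᵥ ((ω : F)⁻¹ • ev ⟨1, by omega⟩)) = 0 := by
    rw [dotProduct_mulVec, hev2, dot_smul_ev hne]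
  rw [rk1_mul, hdot, zero_smul, add_zero, rk1, add_assoc, ← add_vecMulVec, Matrix.mulVec_smul, hU1]
  congr 2
  simp [smul_add, smul_smul]

end CfsgLib.SLGen
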