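import Mathlib
import Cfsg.Agent.Lib.SLGen.Three

/-!
Two conjugate regular unipotent generators of `SL_3` in characteristic two: a regular unipotent
element squares to a transvection.
-/

set_option autoImplicit false

namespace CfsgLib.SLGen

open Matrix CfsgLib.AutPSL

variable {F : Type*} [Field F]

theorem exists_two_charTwo (h2 : (2 : F) = 0) {c : F} (hc : c ≠ 0)
    (hgen : Subring.closure ({c ^ 3} : Set F) = ⊤) :
    ∃ u g : Matrix.SpecialLinearGroup (Fin 3) F,
      IsNilpotent ((u : Matrix (Fin 3) (Fin 3) F) - 1) ∧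
        ((u : Matrix (Fin 3) (Fin 3) F) - 1) ^ (3 - 1) ≠ 0 ∧
      Subgroup.closure ({u, g * u * g⁻¹} : Set (Matrix.SpecialLinearGroup (Fin 3) F)) = ⊤ := by
  classical
  set a : F := c ^ 3 with ha
  have ha0 : a ≠ 0 := pow_ne_zero 3 hc
  have hneg : (-1 : F) = 1 := by linear_combination -h2
  let u : Matrix.SpecialLinearGroup (Fin 3) F :=
    ⟨!![1, a, 0; 0, 1, a⁻¹; 0, 0, 1], by simp [Matrix.det_fin_three]⟩
  let w : Matrix.SpecialLinearGroup (Fin 3) F :=
    ⟨1 + (jN 3 F)ᵀ, by
      rw [← Matrix.transpose_one, ← Matrix.transpose_add, Matrix.det_transpose, det_one_add_jN]⟩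
  let g : Matrix.SpecialLinearGroup (Fin 3) F :=
    ⟨!![0, 0, c ^ 2 * a⁻¹; 0, c ^ 2, 0; c ^ 2 * a⁻¹, 0, 0], by
      simp [Matrix.det_fin_three, ha]
      field_simp
      exact hneg⟩
  have hwg : g * u * g⁻¹ = w := by
    rw [mul_inv_eq_iff_eq_mul]
    apply Subtype.ext
    rw [Matrix.SpecialLinearGroup.coe_mul, Matrix.SpecialLinearGroup.coe_mul]
    ext i j
    fin_cases i <;> fin_cases j <;>
      simp [g, u, w, jN, Matrix.mul_apply, Fin.sum_univ_three, Matrix.one_apply] <;> field_simp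
  have hsq : ∀ i j : Fin 3, (u * u : Matrix.SpecialLinearGroup (Fin 3) F).1 i j =
      rk1 ((1 : F) • ev (0 : Fin 3)) (ev (2 : Fin 3)) i j := by
    intro i j
    rw [Matrix.SpecialLinearGroup.coe_mul]
    fin_cases i <;> fin_cases j <;>
      simp [u, rk1, ev, vecMulVec_apply, Matrix.mul_apply, Fin.sum_univ_three, ha0] <;>
      first
        | linear_combination a * h2
        | linear_combination a⁻¹ * h2
        | linear_combination h2
  refine ⟨u, g, ⟨3, ?_⟩, ?_, ?_⟩
  · ext i j
    fin_cases i <;> fin_cases j <;>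
      simp [u, pow_succ, Matrix.mul_apply, Fin.sum_univ_three, Matrix.vecMul, dotProduct]
  · intro h0
    have := congrFun (congrFun h0 0) 2
    simp [u, pow_succ, Matrix.mul_apply, Fin.sum_univ_three, Matrix.vecMul, dotProduct, ha0] at this
  rw [hwg]
  set H := Subgroup.closure ({u, w} : Set (Matrix.SpecialLinearGroup (Fin 3) F))
  have hu : u ∈ H := Subgroup.subset_closure (by simp)
  refine three_gen (n := 3) le_rfl hgen (U := u.1) ⟨u, hu, rfl⟩
    ⟨w, Subgroup.subset_closure (by simp), rfl⟩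
    ⟨dot_smul_ev (by simp [Fin.ext_iff]) 1, u * u, H.mul_mem hu hu, Matrix.ext hsq⟩ ?_ ?_
  · funext i
    fin_cases i <;> simp [u, ev, ha, Matrix.mulVec, dotProduct, Fin.sum_univ_three]
  · funext i
    fin_cases i <;> simp [u, ev, Matrix.vecMul, dotProduct, Fin.sum_univ_three]

end CfsgLib.SLGen
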