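import Mathlib
import Cfsg.Agent.Lib.SLGen.Three

/-!
Two conjugate regular unipotent generators of `SL_3` over the fields with three, four and seven
elements, by explicit words.
-/

set_option autoImplicit false

namespace CfsgLib.SLGen

open Matrix CfsgLib.AutPSL

/-- The field with four elements as pairs `a + b ω`. -/
@[ext] structure K4 where
  re : ZMod 2
  im : ZMod 2
deriving DecidableEq

namespace K4

instance : Zero K4 := ⟨⟨0, 0⟩⟩
instance : One K4 := ⟨⟨1, 0⟩⟩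
instance : Add K4 := ⟨fun x y => ⟨x.re + y.re, x.im + y.im⟩⟩
instance : Neg K4 := ⟨fun x => ⟨-x.re, -x.im⟩⟩
instance : Mul K4 :=
  ⟨fun x y => ⟨x.re * y.re + x.im * y.im, x.re * y.im + x.im * y.re + x.im * y.im⟩⟩

@[simp] theorem zero_re : (0 : K4).re = 0 := rfl
@[simp] theorem zero_im : (0 : K4).im = 0 := rfl
@[simp] theorem one_re : (1 : K4).re = 1 := rfl
@[simp] theorem one_im : (1 : K4).im = 0 := rfl
@[simp] theorem add_re (x y : K4) : (x + y).re = x.re + y.re := rfl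
@[simp] theorem add_im (x y : K4) : (x + y).im = x.im + y.im := rfl
@[simp] theorem neg_re (x : K4) : (-x).re = -x.re := rfl
@[simp] theorem neg_im (x : K4) : (-x).im = -x.im := rfl
@[simp] theorem mul_re (x y : K4) : (x * y).re = x.re * y.re + x.im * y.im := rfl
@[simp] theorem mul_im (x y : K4) :
    (x * y).im = x.re * y.im + x.im * y.re + x.im * y.im := rfl

instance : CommRing K4 where
  add_assoc _ _ _ := by ext <;> simp <;> ring
  zero_add _ := by ext <;> simp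
  add_zero _ := by ext <;> simp
  nsmul := nsmulRec
  zsmul := zsmulRec
  neg_add_cancel _ := by ext <;> simp [CharTwo.add_self_eq_zero]
  add_comm _ _ := by ext <;> simp <;> ring
  left_distrib _ _ _ := by ext <;> simp <;> ring
  right_distrib _ _ _ := by ext <;> simp <;> ring
  zero_mul _ := by ext <;> simp
  mul_zero _ := by ext <;> simp
  mul_assoc _ _ _ := by ext <;> simp <;> ring
  one_mul _ := by ext <;> simp
  mul_one _ := by ext <;> simp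
  mul_comm _ _ := by ext <;> simp <;> ring

end K4

variable {F : Type*} [Field F] {K : Type*} [CommRing K]

/-- Generation from certified words over a coefficient ring. -/
theorem exists_two_of_words (ρ : K →+* F) (G : Fin 4 → Matrix (Fin 3) (Fin 3) K)
    (g : Matrix (Fin 3) (Fin 3) K) (hg : g.det = 1) (hJ : G 0 = !![1, 1, 0; 0, 1, 1; 0, 0, 1])
    (h02 : G 0 * G 2 = 1) (h13 : G 1 * G 3 = 1) (hconj : g * G 0 = G 1 * g)
    (l01 l12 l20 lω : List (Fin 4)) (ω : K)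
    (h01 : (l01.map G).prod = !![1, 1, 0; 0, 1, 0; 0, 0, 1])
    (h12 : (l12.map G).prod = !![1, 0, 0; 0, 1, 1; 0, 0, 1])
    (h20 : (l20.map G).prod = !![1, 0, 0; 0, 1, 0; 1, 0, 1])
    (hω : (lω.map G).prod = !![1, ω, 0; 0, 1, 0; 0, 0, 1])
    (hgen : Subring.closure ({ρ ω} : Set F) = ⊤) :
    ∃ u g : Matrix.SpecialLinearGroup (Fin 3) F,
      IsNilpotent ((u : Matrix (Fin 3) (Fin 3) F) - 1) ∧
        ((u : Matrix (Fin 3) (Fin 3) F) - 1) ^ (3 - 1) ≠ 0 ∧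
      Subgroup.closure ({u, g * u * g⁻¹} : Set (Matrix.SpecialLinearGroup (Fin 3) F)) = ⊤ := by
  classical
  let φ : Matrix (Fin 3) (Fin 3) K →+* Matrix (Fin 3) (Fin 3) F := ρ.mapMatrix
  let u : Matrix.SpecialLinearGroup (Fin 3) F :=
    ⟨!![1, 1, 0; 0, 1, 1; 0, 0, 1], by simp [Matrix.det_fin_three]⟩
  let g' : Matrix.SpecialLinearGroup (Fin 3) F :=
    ⟨φ g, (ρ.map_det g).symm.trans (by rw [hg, map_one])⟩
  have hu : φ (G 0) = u.1 := by
    rw [hJ]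
    ext i j
    fin_cases i <;> fin_cases j <;> simp [φ, u]
  refine ⟨u, g', ⟨3, ?_⟩, ?_, ?_⟩
  · ext i j
    fin_cases i <;> fin_cases j <;>
      simp [u, pow_succ, Matrix.mul_apply, Fin.sum_univ_three]
  · intro h0
    have := congrFun (congrFun h0 0) 2
    simp [u, pow_succ, Matrix.mul_apply, Fin.sum_univ_three] at this
  set H := Subgroup.closure ({u, g' * u * g'⁻¹} : Set (Matrix.SpecialLinearGroup (Fin 3) F))
  have m0 : Mem H (φ (G 0)) := ⟨u, Subgroup.subset_closure (by simp), hu.symm⟩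
  have m1 : Mem H (φ (G 1)) := by
    refine ⟨g' * u * g'⁻¹, Subgroup.subset_closure (by simp), ?_⟩
    rw [Matrix.SpecialLinearGroup.coe_mul, Matrix.SpecialLinearGroup.coe_mul, ← hu,
      show g'.1 * φ (G 0) = φ (G 1) * g'.1 by
        show φ g * φ (G 0) = φ (G 1) * φ g
        rw [← map_mul, ← map_mul, hconj],
      mul_assoc, ← Matrix.SpecialLinearGroup.coe_mul, mul_inv_cancel,
      Matrix.SpecialLinearGroup.coe_one, mul_one]
  have mG : ∀ i, Mem H (φ (G i)) := by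
    intro i
    fin_cases i
    · exact m0
    · exact m1
    · exact m0.inv (by rw [← map_mul]; exact (congrArg φ h02).trans (map_one φ))
    · exact m1.inv (by rw [← map_mul]; exact (congrArg φ h13).trans (map_one φ))
  have mword : ∀ l : List (Fin 4), Mem H (φ (l.map G).prod) := by
    intro l
    induction l with
    | nil => exact ⟨1, H.one_mem, by simp⟩
    | cons a l ih => rw [List.map_cons, List.prod_cons, map_mul]; exact (mG a).mul ih
  have hmk : ∀ (i j : Fin 3), i ≠ j → ∀ (t : F) (l : List (Fin 4)),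
      rk1 (t • ev i) (ev j) = φ (l.map G).prod → XMem H i j t := fun i j hij t l he =>
    ⟨dot_smul_ev hij t, he ▸ mword l⟩
  have x01 : XMem H 0 1 1 := hmk 0 1 (by simp) 1 l01 (by
    rw [h01]
    ext i j
    fin_cases i <;> fin_cases j <;> simp [φ, rk1, ev, vecMulVec_apply])
  have x12 : XMem H 1 2 1 := hmk 1 2 (by simp) 1 l12 (by
    rw [h12]
    ext i j
    fin_cases i <;> fin_cases j <;> simp [φ, rk1, ev, vecMulVec_apply])
  have x20 : XMem H 2 0 1 := hmk 2 0 (by simp) 1 l20 (by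
    rw [h20]
    ext i j
    fin_cases i <;> fin_cases j <;> simp [φ, rk1, ev, vecMulVec_apply])
  have x02 : XMem H 0 2 1 := by simpa using x01.trans (by simp) (by simp) (by simp) x12
  have x10 : XMem H 1 0 1 := by simpa using x12.trans (by simp) (by simp) (by simp) x20
  have x21 : XMem H 2 1 1 := by simpa using x20.trans (by simp) (by simp) (by simp) x01
  refine eq_top_of_xmem le_rfl ?_ hgen (show (0 : Fin 3) ≠ 1 by simp) (hmk 0 1 (by simp) _ lω ?_)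
  · intro i j hij
    fin_cases i <;> fin_cases j <;> first
      | exact absurd rfl hij | exact x01 | exact x12 | exact x20 | exact x02 | exact x10 | exact x21
  · rw [hω]
    ext i j
    fin_cases i <;> fin_cases j <;> simp [φ, rk1, ev, vecMulVec_apply]

/-- The generators over the field with 3 elements. -/
def mats3 : Fin 4 → Matrix (Fin 3) (Fin 3) (ZMod 3) :=
  ![!![1, 1, 0; 0, 1, 1; 0, 0, 1],
    !![0, 1, 2; 1, 1, 1; 1, 2, 2],
    !![1, 2, 1; 0, 1, 2; 0, 0, 1],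
    !![0, 2, 2; 2, 1, 2; 1, 1, 2]]

theorem exists_two_3 (ρ : (ZMod 3) →+* F) (hgen : Subring.closure ({(1 : F)} : Set F) = ⊤) :
    ∃ u g : Matrix.SpecialLinearGroup (Fin 3) F,
      IsNilpotent ((u : Matrix (Fin 3) (Fin 3) F) - 1) ∧
        ((u : Matrix (Fin 3) (Fin 3) F) - 1) ^ (3 - 1) ≠ 0 ∧
      Subgroup.closure ({u, g * u * g⁻¹} : Set (Matrix.SpecialLinearGroup (Fin 3) F)) = ⊤ :=
  exists_two_of_words ρ mats3 !![1, 2, 0; 0, 1, 0; 2, 1, 1]
    (by rw [Matrix.det_fin_three]; decide +kernel)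
    (by decide +kernel) (by decide +kernel) (by decide +kernel) (by decide +kernel)
    [1, 0, 1, 0, 1, 2, 3, 0, 1] [3, 0, 1, 2, 3, 0, 3, 0, 3]
    [0, 1, 0, 3, 2, 3, 2, 1, 0] [1, 0, 1, 0, 1, 2, 3, 0, 1]
    1
    (by decide +kernel) (by decide +kernel) (by decide +kernel) (by decide +kernel)
    (by rwa [map_one])

/-- The generators over the field with 4 elements. -/
def mats4 : Fin 4 → Matrix (Fin 3) (Fin 3) (K4) :=
  ![!![⟨1, 0⟩, ⟨1, 0⟩, ⟨0, 0⟩; ⟨0, 0⟩, ⟨1, 0⟩, ⟨1, 0⟩; ⟨0, 0⟩, ⟨0, 0⟩, ⟨1, 0⟩],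
    !![⟨0, 1⟩, ⟨0, 1⟩, ⟨1, 1⟩; ⟨1, 1⟩, ⟨1, 1⟩, ⟨0, 0⟩; ⟨0, 1⟩, ⟨1, 0⟩, ⟨0, 0⟩],
    !![⟨1, 0⟩, ⟨1, 0⟩, ⟨1, 0⟩; ⟨0, 0⟩, ⟨1, 0⟩, ⟨1, 0⟩; ⟨0, 0⟩, ⟨0, 0⟩, ⟨1, 0⟩],
    !![⟨0, 0⟩, ⟨1, 1⟩, ⟨0, 1⟩; ⟨0, 0⟩, ⟨1, 0⟩, ⟨0, 1⟩; ⟨0, 1⟩, ⟨1, 0⟩, ⟨0, 0⟩]]

theorem exists_two_4 (ρ : (K4) →+* F) (hgen : Subring.closure ({ρ ⟨0, 1⟩} : Set F) = ⊤) :
    ∃ u g : Matrix.SpecialLinearGroup (Fin 3) F,
      IsNilpotent ((u : Matrix (Fin 3) (Fin 3) F) - 1) ∧
        ((u : Matrix (Fin 3) (Fin 3) F) - 1) ^ (3 - 1) ≠ 0 ∧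
      Subgroup.closure ({u, g * u * g⁻¹} : Set (Matrix.SpecialLinearGroup (Fin 3) F)) = ⊤ :=
  exists_two_of_words ρ mats4 !![⟨1, 0⟩, ⟨0, 0⟩, ⟨0, 0⟩; ⟨0, 1⟩, ⟨1, 0⟩, ⟨1, 1⟩; ⟨0, 0⟩, ⟨1, 0⟩, ⟨0, 1⟩]
    (by rw [Matrix.det_fin_three]; decide +kernel)
    (by decide +kernel) (by decide +kernel) (by decide +kernel) (by decide +kernel)
    [0, 1, 0, 3, 0, 1, 1, 2, 1, 2, 3] [2, 3, 0, 3, 2, 1, 1, 0, 1, 2, 1]
    [0, 0, 1, 0, 1, 1, 0, 1, 0, 1, 2, 1] [1, 0, 0, 1, 0, 1, 1, 0, 1, 0, 1, 0]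
    ⟨0, 1⟩
    (by decide +kernel) (by decide +kernel) (by decide +kernel) (by decide +kernel)
    hgen

/-- The generators over the field with 7 elements. -/
def mats7 : Fin 4 → Matrix (Fin 3) (Fin 3) (ZMod 7) :=
  ![!![1, 1, 0; 0, 1, 1; 0, 0, 1],
    !![5, 4, 2; 5, 4, 0; 3, 6, 1],
    !![1, 6, 1; 0, 1, 6; 0, 0, 1],
    !![4, 1, 6; 2, 6, 3; 4, 3, 0]]

theorem exists_two_7 (ρ : (ZMod 7) →+* F) (hgen : Subring.closure ({(1 : F)} : Set F) = ⊤) :
    ∃ u g : Matrix.SpecialLinearGroup (Fin 3) F,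
      IsNilpotent ((u : Matrix (Fin 3) (Fin 3) F) - 1) ∧
        ((u : Matrix (Fin 3) (Fin 3) F) - 1) ^ (3 - 1) ≠ 0 ∧
      Subgroup.closure ({u, g * u * g⁻¹} : Set (Matrix.SpecialLinearGroup (Fin 3) F)) = ⊤ :=
  exists_two_of_words ρ mats7 !![1, 0, 0; 3, 1, 5; 6, 2, 4]
    (by rw [Matrix.det_fin_three]; decide +kernel)
    (by decide +kernel) (by decide +kernel) (by decide +kernel) (by decide +kernel)
    [0, 3, 0, 0, 1, 1, 0, 1, 1, 2, 1] [0, 3, 0, 3, 3, 2, 3, 3, 2, 2, 1, 2]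
    [2, 3, 3, 3, 0, 1, 1, 0, 3, 3, 0] [0, 3, 0, 0, 1, 1, 0, 1, 1, 2, 1]
    1
    (by decide +kernel) (by decide +kernel) (by decide +kernel) (by decide +kernel)
    (by rwa [map_one])

end CfsgLib.SLGen
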