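import Mathlib
import Cfsg.Agent.Lib.SLGen.Three
import Cfsg.Agent.Lib.SLGen.RingPair

/-!
Two conjugate regular unipotent generators of `SL_3`, from a monomial element with a regular torus
element as its square.
-/

set_option autoImplicit false

namespace CfsgLib.SLGen

open Matrix CfsgLib.AutPSL

variable {F : Type*} [Field F] {H : Subgroup (Matrix.SpecialLinearGroup (Fin 3) F)}

/-- An upper unitriangular matrix. -/
def uni (a b c : F) : Matrix (Fin 3) (Fin 3) F := !![1, a, b; 0, 1, c; 0, 0, 1]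

theorem uni_mul (a b c a' b' c' : F) :
    uni a b c * uni a' b' c' = uni (a + a') (b + b' + a * c') (c + c') := by
  ext i j; fin_cases i <;> fin_cases j <;> simp [uni, Matrix.mul_apply, Fin.sum_univ_three] <;> ring

theorem uni_inv (a b c : F) : uni a b c * uni (-a) (a * c - b) (-c) = 1 := by
  ext i j; fin_cases i <;> fin_cases j <;>
    simp [uni, Matrix.mul_apply, Fin.sum_univ_three] <;> ring

theorem uni_zero : uni (0 : F) 0 0 = 1 := by
  ext i j; fin_cases i <;> fin_cases j <;> simp [uni]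

/-- Generation from one unitriangular element and one monomial element. -/
theorem unitri_gen {y C B : F} (hy : y ≠ 0) (hC : C ≠ 0)
    (hpair : Subring.closure ({(-(y ^ 3)⁻¹, (-(y ^ 3)⁻¹)⁻¹)} : Set (F × F)) = ⊤)
    (hU : Mem H (uni 1 B C)) (hg : Mem H !![0, 0, -y⁻¹; 0, y, 0; 1, 0, 0]) : H = ⊤ := by
  classical
  set r : F := -(y ^ 3)⁻¹ with hr
  have hgi : !![0, 0, -y⁻¹; 0, y, 0; 1, 0, 0] * !![0, 0, 1; 0, y⁻¹, 0; -y, 0, 0] =
      (1 : Matrix (Fin 3) (Fin 3) F) := by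
    ext i j; fin_cases i <;> fin_cases j <;> simp [Matrix.mul_apply, Fin.sum_univ_three, hy]
  -- the pairs occurring on the superdiagonal
  let Λ : AddSubgroup (F × F) :=
    { carrier := {v | ∃ b, Mem H (uni v.1 b v.2)}
      zero_mem' := ⟨0, by rw [Prod.fst_zero, Prod.snd_zero, uni_zero]; exact ⟨1, H.one_mem, rfl⟩⟩
      add_mem' := by
        rintro ⟨a, c⟩ ⟨a', c'⟩ ⟨b, hb⟩ ⟨b', hb'⟩
        refine ⟨b + b' + a * c', ?_⟩
        have := hb.mul hb'
        rwa [uni_mul] at this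
      neg_mem' := by
        rintro ⟨a, c⟩ ⟨b, hb⟩
        exact ⟨a * c - b, hb.inv (uni_inv a b c)⟩ }
  have hinv : ∀ v ∈ Λ, (r, r⁻¹) * v ∈ Λ := by
    rintro ⟨a, c⟩ ⟨b, hb⟩
    refine ⟨b, ?_⟩
    have hh := hg.mul hg
    have hhi := (hg.inv hgi).mul (hg.inv hgi)
    have h1 := (hh.mul hb).mul hhi
    suffices he : uni ((r, r⁻¹) * (a, c)).1 b ((r, r⁻¹) * (a, c)).2 =
        !![0, 0, -y⁻¹; 0, y, 0; 1, 0, 0] * !![0, 0, -y⁻¹; 0, y, 0; 1, 0, 0] * uni a b c *
          (!![0, 0, 1; 0, y⁻¹, 0; -y, 0, 0] * !![0, 0, 1; 0, y⁻¹, 0; -y, 0, 0]) by rwa [he]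
    ext i j
    fin_cases i <;> fin_cases j <;>
      simp [uni, hr, Matrix.mul_apply, Fin.sum_univ_three] <;> field_simp
  let S : Subring (F × F) :=
    { carrier := {v | ∀ w ∈ Λ, v * w ∈ Λ}
      one_mem' := fun w hw => by rw [one_mul]; exact hw
      mul_mem' := fun {a b} ha hb w hw => by rw [mul_assoc]; exact ha _ (hb w hw)
      zero_mem' := fun w _ => by rw [zero_mul]; exact Λ.zero_mem
      add_mem' := fun {a b} ha hb w hw => by rw [add_mul]; exact Λ.add_mem (ha w hw) (hb w hw)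
      neg_mem' := fun {a} ha w hw => by rw [neg_mul]; exact Λ.neg_mem (ha w hw) }
  have hS : ∀ v : F × F, v ∈ S := fun v => by
    have h1 : Subring.closure ({(r, r⁻¹)} : Set (F × F)) ≤ S :=
      Subring.closure_le.2 (Set.singleton_subset_iff.2 hinv)
    exact h1 (by rw [hpair]; exact Subring.mem_top v)
  have hsup : ∀ a c : F, ∃ b, Mem H (uni a b c) := by
    intro a c
    have h1 : ((1 : F), C) ∈ Λ := ⟨B, hU⟩
    have h2 := hS (a, c / C) _ h1
    rwa [Prod.mk_mul_mk, mul_one, div_mul_cancel₀ _ hC] at h2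
  have hZ : ∀ t : F, Mem H (uni 0 t 0) := by
    intro t
    obtain ⟨b, hb⟩ := hsup 1 0
    obtain ⟨b', hb'⟩ := hsup 0 t
    have h1 := ((hb.mul hb').mul (hb.inv (uni_inv 1 b 0))).mul (hb'.inv (uni_inv 0 b' t))
    simp only [uni_mul] at h1
    convert h1 using 2 <;> ring
  have hx : ∀ t : F, XMem H 0 1 t ∧ XMem H 1 2 t ∧ XMem H 0 2 t := by
    intro t
    have hmk : ∀ (i j : Fin 3), i ≠ j → ∀ M : Matrix (Fin 3) (Fin 3) F,
        rk1 (t • ev i) (ev j) = M → Mem H M → XMem H i j t :=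
      fun i j hij M he hM => ⟨dot_smul_ev hij t, he ▸ hM⟩
    refine ⟨?_, ?_, hmk 0 2 (by simp) (uni 0 t 0) ?_ (hZ t)⟩
    · obtain ⟨b, hb⟩ := hsup t 0
      refine hmk 0 1 (by simp) _ ?_ (hb.mul (hZ (-b)))
      rw [uni_mul]
      ext i j; fin_cases i <;> fin_cases j <;> simp [uni, rk1, ev, vecMulVec_apply]
    · obtain ⟨b, hb⟩ := hsup 0 t
      refine hmk 1 2 (by simp) _ ?_ (hb.mul (hZ (-b)))
      rw [uni_mul]
      ext i j; fin_cases i <;> fin_cases j <;> simp [uni, rk1, ev, vecMulVec_apply]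
    · ext i j; fin_cases i <;> fin_cases j <;> simp [uni, rk1, ev, vecMulVec_apply]
  -- the lower root elements
  have hlow : ∀ t : F, XMem H 1 0 t ∧ XMem H 2 1 t ∧ XMem H 2 0 t := by
    intro t
    have key : ∀ (i j k l : Fin 3) (s : F), k ≠ l → XMem H i j s →
        rk1 (!![0, 0, -y⁻¹; 0, y, 0; 1, 0, 0] *ᵥ (s • ev i))
            ((ev j : Fin 3 → F) ᵥ* !![0, 0, 1; 0, y⁻¹, 0; -y, 0, 0]) = rk1 (t • ev k) (ev l) →
        XMem H k l t := by
      intro i j k l s hkl h he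
      have h1 := Root.conj h hg hgi
      exact ⟨dot_smul_ev hkl t, he ▸ h1.2⟩
    refine ⟨key 1 2 1 0 (-t / y ^ 2) (by simp) (hx _).2.1 ?_,
      key 0 1 2 1 (t * y) (by simp) (hx _).1 ?_, key 0 2 2 0 (-t / y) (by simp) (hx _).2.2 ?_⟩
    all_goals
      ext i j
      fin_cases i <;> fin_cases j <;>
        simp [rk1, ev, vecMulVec_apply, Matrix.mulVec, Matrix.vecMul, dotProduct,
          Fin.sum_univ_three] <;> field_simp
  have hall : ∀ (i j : Fin 3), i ≠ j → ∀ t : F, XMem H i j t := by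
    intro i j hij t
    fin_cases i <;> fin_cases j <;> first
      | exact absurd rfl hij
      | exact (hx t).1 | exact (hx t).2.1 | exact (hx t).2.2
      | exact (hlow t).1 | exact (hlow t).2.1 | exact (hlow t).2.2
  refine eq_top_iff.2 fun M _ => ?_
  refine Matrix.SpecialLinearGroup.diagonal_transvection_induction' (· ∈ H) M
    (fun i j hij c hc => ?_) (fun i j hij c => ?_) fun A B => H.mul_mem
  · have hm : ∀ (i j : Fin 3) (hij : i ≠ j) (t : F), xr hij t ∈ H := fun i j hij t => by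
      obtain ⟨-, h, hh, he⟩ := hall i j hij t
      rwa [show h = xr hij t from Subtype.ext he] at hh
    rw [diag2n_eq hij c hc]
    exact H.mul_mem (H.mul_mem (H.mul_mem (H.mul_mem (H.mul_mem (hm _ _ _ _) (hm _ _ _ _))
      (hm _ _ _ _)) (hm _ _ _ _)) (hm _ _ _ _)) (hm _ _ _ _)
  · obtain ⟨-, h, hh, he⟩ := hall i j hij c
    rw [← xr_eq_transvection]
    rwa [show h = xr hij c from Subtype.ext he] at hh

/-- Two conjugate regular unipotent generators, for a suitable parameter. -/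
theorem exists_two_unitri {y : F} (hy : y ≠ 0) (hy1 : y ≠ 1)
    (hpair : Subring.closure ({(-(y ^ 3)⁻¹, (-(y ^ 3)⁻¹)⁻¹)} : Set (F × F)) = ⊤) :
    ∃ u g : Matrix.SpecialLinearGroup (Fin 3) F,
      IsNilpotent ((u : Matrix (Fin 3) (Fin 3) F) - 1) ∧
        ((u : Matrix (Fin 3) (Fin 3) F) - 1) ^ (3 - 1) ≠ 0 ∧
      Subgroup.closure ({u, g * u * g⁻¹} : Set (Matrix.SpecialLinearGroup (Fin 3) F)) = ⊤ := by
  classical
  set C : F := (1 - y) ^ 3 / y ^ 2 with hC
  set B : F := 3 - y with hB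
  set x : F := -y⁻¹ with hx
  set t : F := (1 - y) / y with ht
  have hC0 : C ≠ 0 := div_ne_zero (pow_ne_zero 3 (sub_ne_zero.2 hy1.symm)) (pow_ne_zero 2 hy)
  let u : Matrix.SpecialLinearGroup (Fin 3) F := ⟨uni 1 B C, by simp [uni, Matrix.det_fin_three]⟩
  let Bw : Matrix (Fin 3) (Fin 3) F := t • !![1 + x, -1, 1; y * C, 0, 0; 1 - y, 1, 0]
  let Bu : Matrix (Fin 3) (Fin 3) F := !![C, B, 0; 0, C, 0; 0, 0, 1]
  let Bu' : Matrix (Fin 3) (Fin 3) F := !![C⁻¹, -B / C ^ 2, 0; 0, C⁻¹, 0; 0, 0, 1]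
  let J : Matrix (Fin 3) (Fin 3) F := !![1, 1, 0; 0, 1, 1; 0, 0, 1]
  let w : Matrix.SpecialLinearGroup (Fin 3) F :=
    ⟨!![0, 0, x; 0, y, 0; 1, 0, 0] * uni 1 B C, by
      rw [Matrix.det_mul, Matrix.det_fin_three, Matrix.det_fin_three]
      simp [uni, hx, hy]⟩
  let g : Matrix.SpecialLinearGroup (Fin 3) F := ⟨Bw * Bu', by
    rw [Matrix.det_mul, Matrix.det_fin_three, Matrix.det_fin_three]
    simp [Bw, Bu', hC, ht]
    have : (1 - y) ≠ 0 := sub_ne_zero.2 hy1.symm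
    field_simp⟩
  have e1 : Bu' * uni 1 B C = J * Bu' := by
    ext i j
    fin_cases i <;> fin_cases j <;>
      simp [Bu', J, uni, Matrix.mul_apply, Fin.sum_univ_three] <;> field_simp <;> ring
  have e2 : (!![0, 0, x; 0, y, 0; 1, 0, 0] * uni 1 B C) * Bw = Bw * J := by
    ext i j
    fin_cases i <;> fin_cases j <;>
      simp [Bw, J, uni, hx, hC, hB, ht, Matrix.mul_apply, Fin.sum_univ_three] <;> field_simp <;> ring
  have hwg : g * u * g⁻¹ = w := by
    rw [mul_inv_eq_iff_eq_mul]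
    apply Subtype.ext
    show Bw * Bu' * uni 1 B C = !![0, 0, x; 0, y, 0; 1, 0, 0] * uni 1 B C * (Bw * Bu')
    rw [mul_assoc, e1, ← mul_assoc (!![0, 0, x; 0, y, 0; 1, 0, 0] * uni 1 B C), e2, mul_assoc]
  refine ⟨u, g, ⟨3, ?_⟩, ?_, ?_⟩
  · ext i j
    fin_cases i <;> fin_cases j <;>
      simp [u, uni, pow_succ, Matrix.mul_apply, Fin.sum_univ_three, Matrix.vecMul, dotProduct]
  · intro h0
    have := congrFun (congrFun h0 0) 2
    simp [u, uni, pow_succ, Matrix.mul_apply, Fin.sum_univ_three, Matrix.vecMul, dotProduct, hC0] at this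
  rw [hwg]
  have hu : u ∈ Subgroup.closure ({u, w} : Set (Matrix.SpecialLinearGroup (Fin 3) F)) :=
    Subgroup.subset_closure (by simp)
  refine unitri_gen hy hC0 hpair ⟨u, hu, rfl⟩
    ⟨w * u⁻¹, Subgroup.mul_mem _ (Subgroup.subset_closure (by simp)) (Subgroup.inv_mem _ hu), ?_⟩
  show !![0, 0, x; 0, y, 0; 1, 0, 0] * uni 1 B C * (u⁻¹).1 = _
  rw [mul_assoc, show uni 1 B C * (u⁻¹).1 = (u * u⁻¹).1 from rfl, mul_inv_cancel,
    Matrix.SpecialLinearGroup.coe_one, mul_one]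

end CfsgLib.SLGen
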