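import Mathlib
import Cfsg.Agent.Lib.SLGen.Unitri
import Cfsg.Agent.Lib.SLGen.CharTwo
import Cfsg.Agent.Lib.SLGen.Small

/-!
`SL_3` over a finite field is generated by two conjugate regular unipotent elements.
-/

set_option autoImplicit false

namespace CfsgLib.SLGen

open Matrix

variable {F : Type*} [Field F] [Fintype F]

theorem exists_two :
    ∃ u g : Matrix.SpecialLinearGroup (Fin 3) F,
      IsNilpotent ((u : Matrix (Fin 3) (Fin 3) F) - 1) ∧
        ((u : Matrix (Fin 3) (Fin 3) F) - 1) ^ (3 - 1) ≠ 0 ∧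
      Subgroup.closure ({u, g * u * g⁻¹} : Set (Matrix.SpecialLinearGroup (Fin 3) F)) = ⊤ := by
  classical
  obtain ⟨p, hp⟩ := CharP.exists F
  haveI : Fact p.Prime := ⟨CharP.char_is_prime F p⟩
  have hpp := (Fact.out : p.Prime)
  obtain ⟨⟨f, hf⟩, -, hF⟩ := FiniteField.card F p
  simp only [PNat.mk_coe] at hF
  obtain ⟨ω, hω⟩ := IsCyclic.exists_ofOrder_eq_natCard (α := Fˣ)
  rw [Nat.card_units, Nat.card_eq_fintype_card] at hω
  set q := Fintype.card F with hq
  have hord : ∀ m : ℕ, (ω : F) ^ m = 1 → q - 1 ∣ m := fun m hm => by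
    rw [← hω]; exact orderOf_dvd_of_pow_eq_one (Units.ext (by simpa using hm))
  have hq1 : 1 < q := Fintype.one_lt_card
  have hone : f = 1 → Subring.closure ({(1 : F)} : Set F) = ⊤ := fun h1 =>
    closure_eq_top hF one_ne_zero fun i hi hif => absurd hi (by omega)
  -- the exceptional fields
  by_cases hex : q = 2 ∨ q = 3 ∨ q = 4 ∨ q = 7 ∨ q = 16
  · rcases hex with h | h | h | h | h
    · obtain ⟨rfl, rfl⟩ : 2 = p ∧ 1 = f := Nat.prime_two.pow_inj' hpp one_ne_zero (by omega) (by rw [← hF, h, pow_one])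
      exact exists_two_charTwo (CharTwo.two_eq_zero) one_ne_zero (by rw [one_pow]; exact hone rfl)
    · obtain ⟨rfl, rfl⟩ : 3 = p ∧ 1 = f := Nat.prime_three.pow_inj' hpp one_ne_zero (by omega) (by rw [← hF, h, pow_one])
      exact exists_two_3 (ZMod.castHom dvd_rfl F) (hone rfl)
    · obtain ⟨rfl, rfl⟩ : 2 = p ∧ 2 = f := Nat.prime_two.pow_inj' hpp two_ne_zero (by omega) (by rw [← hF, h]; rfl)
      have h3 : (ω : F) ^ 3 = 1 := by
        rw [← Units.val_pow_eq_pow_val, show (3 : ℕ) = orderOf ω by omega, pow_orderOf_eq_one,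
          Units.val_one]
      have hne : (ω : F) ≠ 1 := fun h1 => by
        have := hord 1 (by rw [h1, pow_one])
        rw [h] at this
        omega
      have h2 : (2 : F) = 0 := CharTwo.two_eq_zero
      have hrel : (ω : F) ^ 2 = ω + 1 := by
        have h4 : ((ω : F) - 1) * ((ω : F) ^ 2 + ω + 1) = 0 := by linear_combination h3
        have h5 := (mul_eq_zero.1 h4).resolve_left (sub_ne_zero.2 hne)
        linear_combination h5 - ((ω : F) + 1) * h2
      let c : ZMod 2 →+* F := ZMod.castHom dvd_rfl F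
      let ρ : K4 →+* F :=
        { toFun := fun x => c x.re + c x.im * (ω : F)
          map_one' := by simp [map_one, map_zero]
          map_mul' := fun x y => by
            simp only [K4.mul_re, K4.mul_im, map_add, map_mul]
            linear_combination -(c x.im * c y.im) * hrel
          map_zero' := by simp [map_zero]
          map_add' := fun x y => by simp only [K4.add_re, K4.add_im, map_add]; ring }
      refine exists_two_4 ρ ?_
      have hρ : ρ ⟨0, 1⟩ = (ω : F) := by simp [ρ]
      rw [hρ]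
      refine closure_eq_top hF ω.ne_zero fun i hi hif hc => ?_
      have := hord _ hc
      rw [h] at this
      interval_cases i
      omega
    · obtain ⟨rfl, rfl⟩ : 7 = p ∧ 1 = f := (by norm_num : Nat.Prime 7).pow_inj' hpp one_ne_zero (by omega) (by rw [← hF, h, pow_one])
      exact exists_two_7 (ZMod.castHom dvd_rfl F) (hone rfl)
    · obtain ⟨rfl, rfl⟩ : 2 = p ∧ 4 = f := Nat.prime_two.pow_inj' hpp (by norm_num) (by omega) (by rw [← hF, h]; rfl)
      refine exists_two_charTwo (CharTwo.two_eq_zero) ω.ne_zero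
        (closure_eq_top hF (pow_ne_zero 3 ω.ne_zero) fun i hi hif hc => ?_)
      rw [← pow_mul] at hc
      have := hord _ hc
      rw [h] at this
      interval_cases i <;> omega
  -- the generic case
  simp only [not_or] at hex
  obtain ⟨h2, h3, h4, h7, h16⟩ := hex
  set r : F := -((ω : F) ^ 3)⁻¹ with hr
  have hr0 : r ≠ 0 := by simp [hr]
  have key : ∀ m : ℕ, (Odd p → Even m) → r ^ m = 1 → q - 1 ∣ 3 * m := by
    intro m hm h1
    refine hord _ ?_
    have hsign : ((-1 : F)) ^ m = 1 := by
      rcases hpp.eq_two_or_odd' with rfl | hodd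
      · rw [CharTwo.neg_eq, one_pow]
      · exact (hm hodd).neg_one_pow
    rw [hr, neg_pow, hsign, one_mul, inv_pow, inv_eq_one, ← pow_mul] at h1
    exact h1
  have hsub : ∀ i, 0 < i → i < f → r ^ (p ^ i - 1) ≠ 1 := by
    intro i hi hif h1
    -- descend to a divisor of `f`
    set d := Nat.gcd i f with hd
    have hd0 : 0 < d := Nat.gcd_pos_of_pos_left _ hi
    have hdf : d ∣ f := Nat.gcd_dvd_right _ _
    have hdlt : d < f := lt_of_le_of_lt (Nat.gcd_le_left _ hi) hif
    have h5 : r ^ (p ^ d - 1) = 1 := by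
      rw [hd, ← Nat.pow_sub_one_gcd_pow_sub_one p i f, pow_gcd_eq_one]
      exact ⟨h1, by rw [← hF]; exact FiniteField.pow_card_sub_one_eq_one r hr0⟩
    have h2d : 2 * d ≤ f := by
      obtain ⟨k, hk⟩ := hdf
      rcases k with _ | _ | k
      · omega
      · omega
      · rw [hk]; exact le_trans (by omega) (Nat.mul_le_mul_left d (show 2 ≤ k + 2 by omega))
    have h6 := key _ (fun hodd => Nat.Odd.sub_odd hodd.pow odd_one) h5
    set x := p ^ d with hx
    have hx2 : 2 ≤ x := le_trans hpp.two_le (Nat.le_self_pow hd0.ne' p)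
    have hxq : x * x ≤ q := by
      rw [hF, hx, ← pow_add]; exact Nat.pow_le_pow_right hpp.pos (by omega)
    have h8 := Nat.le_of_dvd (by omega) h6
    have hx3 : x * x ≤ 3 * x - 2 := by omega
    have hxe : x = 2 := by
      by_contra hne
      have : 3 * x ≤ x * x := Nat.mul_le_mul_right x (show 3 ≤ x by omega)
      omega
    rw [hxe] at h8
    omega
  have hinvne : ∀ i < f, r ^ (p ^ i + 1) ≠ 1 := by
    intro i hif h1
    rcases Nat.eq_zero_or_pos i with rfl | hi
    · have h6 := key 2 (fun _ => even_two) (by simpa using h1)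
      have h8 := Nat.le_of_dvd (by omega) h6
      have h9 : q ≤ 7 := by omega
      interval_cases q <;> omega
    · have h2i : r ^ (p ^ (2 * i) - 1) = 1 := by
        rw [show p ^ (2 * i) - 1 = (p ^ i + 1) * (p ^ i - 1) by
          rw [mul_comm 2 i, pow_mul, ← Nat.sq_sub_sq, one_pow], pow_mul, h1, one_pow]
      -- so `f = 2 i`
      set d := Nat.gcd (2 * i) f with hd
      have hd0 : 0 < d := Nat.gcd_pos_of_pos_left _ (by omega)
      have h5 : r ^ (p ^ d - 1) = 1 := by
        rw [hd, ← Nat.pow_sub_one_gcd_pow_sub_one p (2 * i) f, pow_gcd_eq_one]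
        exact ⟨h2i, by rw [← hF]; exact FiniteField.pow_card_sub_one_eq_one r hr0⟩
      have hdf : d = f := by
        by_contra hne
        exact hsub d hd0 (lt_of_le_of_ne (Nat.le_of_dvd hf (Nat.gcd_dvd_right _ _)) hne) h5
      have hf2 : f ∣ 2 * i := hdf ▸ Nat.gcd_dvd_left _ _
      obtain ⟨k, hk⟩ := hf2
      have hk1 : k = 1 := by
        rcases k with _ | _ | k
        · omega
        · rfl
        · have : f * 2 ≤ f * (k + 1 + 1) := Nat.mul_le_mul_left f (by omega)
          omega
      subst hk1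
      rw [mul_one] at hk
      have h6 := key _ (fun hodd => hodd.pow.add_one) h1
      set x := p ^ i with hx
      have hx2 : 2 ≤ x := le_trans hpp.two_le (Nat.le_self_pow hi.ne' p)
      have hqx : q = x * x := by rw [hF, ← hk, hx, ← pow_add, two_mul]
      have h8 := Nat.le_of_dvd (by omega) h6
      rw [hqx] at h6 h8 h4 h16
      have hx4 : x ≤ 4 := by
        by_contra hlt
        have : 5 * x ≤ x * x := Nat.mul_le_mul_right x (show 5 ≤ x by omega)
        omega
      interval_cases x <;> omega
  refine exists_two_unitri ω.ne_zero (fun h1 => ?_)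
    (closure_pair_eq_top hF hr0 (closure_eq_top hF hr0 hsub) hinvne)
  have := Nat.le_of_dvd Nat.one_pos (hord 1 (by rw [h1, pow_one]))
  omega

end CfsgLib.SLGen
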